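import Mathlib

/-!
# Operators with `(γ - 1) ^ (p - 1) = 0` normalizing an abelian `p'`-group of operators centralize it

`ring_main`: let `ρ : X →* M` be a homomorphism into an algebra over `ZMod p`, `g ∈ X` with
`(ρ g - 1) ^ (p - 1) = 0`, and `B` a subgroup normalized by `g` whose image is commutative of exponent prime to `p`.
Then `ρ (g⁻¹ a g) = ρ a` for all `a ∈ B`. (Elementary form of the abelian case of Theorem B of Hall and Higman, by
Dedekind's independence argument.)
-/

set_option autoImplicit false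

namespace Cfsg.Agent.H41.EngelRing

open Polynomial

theorem geom_sum_eq_sub_one_pow {p : ℕ} [hp : Fact p.Prime] {M : Type*} [Ring M] [Algebra (ZMod p) M] (γ : M) :
    ∑ i ∈ Finset.range p, γ ^ i = (γ - 1) ^ (p - 1) := by
  have h1 : (∑ i ∈ Finset.range p, (X : (ZMod p)[X]) ^ i) = (X - 1) ^ (p - 1) := by
    have h2 : (X - 1 : (ZMod p)[X]) ≠ 0 := by
      have := Polynomial.X_sub_C_ne_zero (1 : ZMod p)
      rwa [Polynomial.C_1] at this
    apply mul_left_cancel₀ h2
    rw [mul_geom_sum, ← pow_succ', Nat.sub_add_cancel hp.out.one_le, sub_pow_char, one_pow]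
  have h3 := congrArg (Polynomial.aeval γ) h1
  simpa using h3

section

variable {M : Type*} [Ring M]

theorem commute_list_prod {ι : Type*} (x : M) (l : List ι) (f : ι → M) (h : ∀ i ∈ l, Commute x (f i)) :
    Commute x (l.map f).prod := by
  induction l with
  | nil => simp
  | cons a l ih =>
    rw [List.map_cons, List.prod_cons]
    exact (h a List.mem_cons_self).mul_right (ih (fun i hi => h i (List.mem_cons_of_mem _ hi)))

/-- Dedekind's argument. -/
theorem aux_sum (p : ℕ) (γ : M) (hγ : ∑ i ∈ Finset.range p, γ ^ i = 0)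
    (α : ℕ → ℕ → M) (hcomm : ∀ j i j' i', Commute (α j i) (α j' i'))
    (htw : ∀ j i, α j 0 * γ ^ i = γ ^ i * α j i) (k : ℕ) :
    ∑ i ∈ Finset.range p, γ ^ i * ((List.range k).map (fun j => α j i - α j (j + 1))).prod = 0 := by
  induction k with
  | zero => simpa using hγ
  | succ k ih =>
    have hc : ∀ i, Commute (α k i) ((List.range k).map (fun j => α j i - α j (j + 1))).prod := by
      intro i
      apply commute_list_prod
      intro j _
      exact (hcomm _ _ _ _).sub_right (hcomm _ _ _ _)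
    have h1 : ∀ i ∈ Finset.range p,
        γ ^ i * ((List.range (k + 1)).map (fun j => α j i - α j (j + 1))).prod =
        α k 0 * (γ ^ i * ((List.range k).map (fun j => α j i - α j (j + 1))).prod) -
        (γ ^ i * ((List.range k).map (fun j => α j i - α j (j + 1))).prod) * α k (k + 1) := by
      intro i _
      rw [List.range_succ, List.map_append, List.prod_append]
      simp only [List.map_cons, List.map_nil, List.prod_cons, List.prod_nil, mul_one]
      rw [mul_sub, ← (hc i).eq, mul_sub, ← mul_assoc (α k 0), htw k i, mul_assoc, mul_assoc]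
    rw [Finset.sum_congr rfl h1, Finset.sum_sub_distrib, ← Finset.mul_sum, ← Finset.sum_mul, ih, mul_zero,
      zero_mul, sub_zero]

/-- The conclusion of Dedekind's argument. -/
theorem aux_prod (p : ℕ) (hp : 0 < p) (γ : M) (hγ : ∑ i ∈ Finset.range p, γ ^ i = 0)
    (α : ℕ → ℕ → M) (hcomm : ∀ j i j' i', Commute (α j i) (α j' i'))
    (htw : ∀ j i, α j 0 * γ ^ i = γ ^ i * α j i) :
    ((List.range (p - 1)).map (fun j => α j 0 - α j (j + 1))).prod = 0 := by
  have h1 := aux_sum p γ hγ α hcomm htw (p - 1)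
  rw [Finset.sum_eq_single 0] at h1
  · simpa using h1
  · intro i hi hi0
    have h2 : ((List.range (p - 1)).map (fun j => α j i - α j (j + 1))).prod = 0 := by
      obtain ⟨i, rfl⟩ := Nat.exists_eq_succ_of_ne_zero hi0
      have hi' : i ∈ List.range (p - 1) := by
        rw [List.mem_range]
        have := Finset.mem_range.mp hi
        omega
      -- the factor `j = i` vanishes
      obtain ⟨l1, l2, hl⟩ := List.append_of_mem hi'
      rw [hl, List.map_append, List.prod_append, List.map_cons, List.prod_cons, sub_self, zero_mul, mul_zero]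
    rw [h2, mul_zero]
  · intro h
    exact absurd (Finset.mem_range.mpr hp) h

end

/-- Let `ρ : X →* M` be a homomorphism into an algebra over `ZMod p`, `g ∈ X` with `(ρ g - 1) ^ (p - 1) = 0`, and
`B` a subgroup normalized by `g` whose image is commutative of exponent prime to `p`. Then
`ρ (g⁻¹ a g) = ρ a` for all `a ∈ B`. -/
theorem ring_main {p : ℕ} [hp : Fact p.Prime] {M : Type*} [Ring M] [Algebra (ZMod p) M] [CharP M p]
    {X : Type*} [Group X] (ρ : X →* M) (g : X) (B : Subgroup X) (hBn : ∀ b ∈ B, g⁻¹ * b * g ∈ B)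
    (hBc : ∀ a ∈ B, ∀ b ∈ B, Commute (ρ a) (ρ b)) (m : ℕ) (hm : m.Coprime p)
    (hBm : ∀ b ∈ B, ρ b ^ m = 1) (hg : (ρ g - 1) ^ (p - 1) = 0) (a : X) (ha : a ∈ B) :
    ρ (g⁻¹ * a * g) = ρ a := by
  have hp0 : 0 < p := hp.out.pos
  have hγ : ∑ i ∈ Finset.range p, ρ g ^ i = 0 := by rw [geom_sum_eq_sub_one_pow, hg]
  have hgp : ρ (g ^ p) = 1 := by
    have h1 : (ρ g - 1) ^ p = 0 := by
      rw [show p = (p - 1) + 1 by omega, pow_succ, hg, zero_mul]
    rw [sub_pow_char_of_commute p (Commute.one_right (ρ g)), one_pow, sub_eq_zero] at h1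
    rw [map_pow, h1]
  -- conjugates
  have hconj : ∀ (i : ℕ) (b : X), b ∈ B → (g ^ i)⁻¹ * b * g ^ i ∈ B := by
    intro i
    induction i with
    | zero => intro b hb; simpa using hb
    | succ i ih =>
      intro b hb
      have h1 := hBn _ (ih b hb)
      have h2 : (g ^ (i + 1))⁻¹ * b * g ^ (i + 1) = g⁻¹ * ((g ^ i)⁻¹ * b * g ^ i) * g := by
        rw [pow_succ]; group
      rwa [h2]
  -- inverses modulo `p`
  have hinv : ∀ j : ℕ, ∃ j' : ℕ, ∀ _ : j < p - 1, ∃ r : ℕ, (j + 1) * j' = 1 + p * r := by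
    intro j
    by_cases hj : j < p - 1
    · have h1 : Nat.Coprime (j + 1) p := by
        rw [Nat.coprime_comm, Nat.Prime.coprime_iff_not_dvd hp.out]
        intro h
        have := Nat.le_of_dvd (by omega) h
        omega
      obtain ⟨j', hj'⟩ := Nat.exists_mul_mod_eq_one_of_coprime h1 hp.out.one_lt
      refine ⟨j', fun _ => ⟨(j + 1) * j' / p, ?_⟩⟩
      have := Nat.div_add_mod ((j + 1) * j') p
      omega
    · exact ⟨0, fun h => absurd h hj⟩
  choose e he using hinv
  -- the elements `a_j`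
  let cj : ℕ → X := fun i => (g ^ i)⁻¹ * a * g ^ i
  let b : ℕ → ℕ → X := fun J n => ((List.range n).map (fun l => cj (J * l))).prod
  have hbB : ∀ J n, b J n ∈ B := by
    intro J n
    apply Subgroup.list_prod_mem
    intro x hx
    obtain ⟨l, _, rfl⟩ := List.mem_map.mp hx
    exact hconj _ a ha
  -- `a * (b J n)^{g^J} = b J n * a^{g^(J n)}`
  have hb : ∀ J n, a * ((g ^ J)⁻¹ * b J n * g ^ J) = b J n * cj (J * n) := by
    intro J n
    induction n with
    | zero => simp [b, cj]
    | succ n ih =>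
      have h1 : b J (n + 1) = b J n * cj (J * n) := by
        simp only [b]
        rw [List.range_succ, List.map_append, List.prod_append]
        simp
      rw [h1]
      have h2 : (g ^ J)⁻¹ * (b J n * cj (J * n)) * g ^ J =
          ((g ^ J)⁻¹ * b J n * g ^ J) * cj (J * (n + 1)) := by
        simp only [cj]
        rw [Nat.mul_succ, pow_add]
        group
      rw [h2, ← mul_assoc, ih]
  let α : ℕ → ℕ → M := fun j i => ρ ((g ^ i)⁻¹ * b (j + 1) (e j) * g ^ i)
  have hαB : ∀ j i, (g ^ i)⁻¹ * b (j + 1) (e j) * g ^ i ∈ B := fun j i => hconj i _ (hbB _ _)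
  have hα0 : ∀ j, α j 0 = ρ (b (j + 1) (e j)) := by
    intro j
    simp [α]
  have hprod := aux_prod p hp0 (ρ g) hγ α (fun j i j' i' => hBc _ (hαB j i) _ (hαB j' i')) (by
    intro j i
    rw [hα0]
    change _ = ρ g ^ i * ρ ((g ^ i)⁻¹ * b (j + 1) (e j) * g ^ i)
    rw [← map_pow, ← map_mul, ← map_mul]
    congr 1
    group)
  -- `δ = ρ a - ρ (a^g)`
  have hcjB : ∀ i, cj i ∈ B := fun i => hconj i a ha
  have hcj1 : ∀ j, j < p - 1 → ρ (cj ((j + 1) * e j)) = ρ (g⁻¹ * a * g) := by
    intro j hj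
    obtain ⟨r, hr⟩ := he j hj
    simp only [cj]
    rw [hr, pow_add, pow_one, pow_mul]
    have h1 : (g * (g ^ p) ^ r)⁻¹ * a * (g * (g ^ p) ^ r) = ((g ^ p) ^ r)⁻¹ * (g⁻¹ * a * g) * (g ^ p) ^ r := by
      group
    have h2 : ρ ((g ^ p) ^ r) = 1 := by rw [map_pow, hgp, one_pow]
    have h3 : ρ (((g ^ p) ^ r)⁻¹) = 1 := by
      have h4 := map_mul ρ (((g ^ p) ^ r)⁻¹) ((g ^ p) ^ r)
      rw [inv_mul_cancel, map_one, h2, mul_one] at h4
      exact h4.symm
    rw [h1, map_mul, map_mul, h2, h3, one_mul, mul_one]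
  have hfac : ∀ j, j < p - 1 → ρ a * (α j 0 - α j (j + 1)) = α j 0 * (ρ a - ρ (g⁻¹ * a * g)) := by
    intro j hj
    rw [mul_sub, mul_sub, hα0]
    have h1 : ρ a * α j (j + 1) = ρ (b (j + 1) (e j)) * ρ (g⁻¹ * a * g) := by
      change ρ a * ρ ((g ^ (j + 1))⁻¹ * b (j + 1) (e j) * g ^ (j + 1)) = _
      rw [← map_mul, hb, map_mul, hcj1 j hj]
    rw [h1, (hBc a ha _ (hbB _ _)).eq]
  have haB' : g⁻¹ * a * g ∈ B := hBn a ha
  have hca : ∀ x ∈ B, Commute (ρ x) (ρ a - ρ (g⁻¹ * a * g)) := fun x hx =>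
    (hBc x hx a ha).sub_right (hBc x hx _ haB')
  -- multiply out
  have hmul : ∀ k ≤ p - 1, ρ a ^ k * ((List.range k).map (fun j => α j 0 - α j (j + 1))).prod =
      ((List.range k).map (fun j => α j 0)).prod * (ρ a - ρ (g⁻¹ * a * g)) ^ k := by
    obtain ⟨δ, hδ⟩ : ∃ δ, δ = ρ a - ρ (g⁻¹ * a * g) := ⟨_, rfl⟩
    rw [← hδ] at hca ⊢
    rw [← hδ] at hfac
    intro k
    induction k with
    | zero => simp
    | succ k ih =>
      intro hk
      rw [List.range_succ, List.map_append, List.map_append, List.prod_append, List.prod_append]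
      simp only [List.map_cons, List.map_nil, List.prod_cons, List.prod_nil, mul_one]
      have h1 : Commute (ρ a) ((List.range k).map (fun j => α j 0 - α j (j + 1))).prod := by
        apply commute_list_prod
        intro j _
        exact (hBc a ha _ (hαB j 0)).sub_right (hBc a ha _ (hαB j (j + 1)))
      have h2 : Commute (α k 0) δ := hca _ (hαB k 0)
      have h3 := ih (by omega)
      have h4 := hfac k (by omega)
      calc ρ a ^ (k + 1) * (((List.range k).map (fun j => α j 0 - α j (j + 1))).prod * (α k 0 - α k (k + 1)))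
          = ρ a ^ k * (ρ a * ((List.range k).map (fun j => α j 0 - α j (j + 1))).prod) *
            (α k 0 - α k (k + 1)) := by rw [pow_succ]; noncomm_ring
        _ = ρ a ^ k * ((List.range k).map (fun j => α j 0 - α j (j + 1))).prod *
            (ρ a * (α k 0 - α k (k + 1))) := by rw [h1.eq]; noncomm_ring
        _ = ((List.range k).map (fun j => α j 0)).prod * (δ ^ k * α k 0) * δ := by
            rw [h3, h4]; noncomm_ring
        _ = ((List.range k).map (fun j => α j 0)).prod * α k 0 * δ ^ (k + 1) := by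
            rw [← (h2.pow_right k).eq, pow_succ]; noncomm_ring
  have hunit : ∀ x : X, IsUnit (ρ x) := fun x => ((Group.isUnit x).map ρ)
  have hz : (ρ a - ρ (g⁻¹ * a * g)) ^ (p - 1) = 0 := by
    have h1 := hmul (p - 1) le_rfl
    rw [hprod, mul_zero] at h1
    have h2 : IsUnit ((List.range (p - 1)).map (fun j => α j 0)).prod := by
      have h3 : ((List.range (p - 1)).map (fun j => α j 0)).prod =
          ρ (((List.range (p - 1)).map (fun j => (g ^ 0)⁻¹ * b (j + 1) (e j) * g ^ 0)).prod) := by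
        rw [map_list_prod, List.map_map]
        rfl
      rw [h3]
      exact hunit _
    exact (h2.mul_right_eq_zero).mp h1.symm
  have hz' : ρ a ^ p = ρ (g⁻¹ * a * g) ^ p := by
    have h1 : (ρ a - ρ (g⁻¹ * a * g)) ^ p = 0 := by
      rw [show p = (p - 1) + 1 by omega, pow_succ, hz, zero_mul]
    rwa [sub_pow_char_of_commute p (hBc a ha _ haB'), sub_eq_zero] at h1
  -- `(a⁻¹ a^g)` has image of order dividing `p` and `m`
  have hc : a⁻¹ * (g⁻¹ * a * g) ∈ B := B.mul_mem (B.inv_mem ha) haB'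
  have h1 : ρ (a⁻¹ * (g⁻¹ * a * g)) ^ m = 1 := hBm _ hc
  have h2 : ρ (a⁻¹ * (g⁻¹ * a * g)) ^ p = 1 := by
    rw [map_mul, (hBc _ (B.inv_mem ha) _ haB').mul_pow, ← hz', ← (hBc _ (B.inv_mem ha) _ ha).mul_pow, ← map_mul,
      inv_mul_cancel, map_one, one_pow]
  have h3 : ρ (a⁻¹ * (g⁻¹ * a * g)) = 1 := by
    have h4 : orderOf (ρ (a⁻¹ * (g⁻¹ * a * g))) ∣ 1 := by
      have h5 := Nat.dvd_gcd (orderOf_dvd_of_pow_eq_one h1) (orderOf_dvd_of_pow_eq_one h2)
      rwa [hm] at h5
    exact orderOf_eq_one_iff.mp (Nat.dvd_one.mp h4)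
  calc ρ (g⁻¹ * a * g) = ρ (a * (a⁻¹ * (g⁻¹ * a * g))) := by congr 1; group
    _ = ρ a := by rw [map_mul, h3, mul_one]

end Cfsg.Agent.H41.EngelRing
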