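import Mathlib
import Cfsg.Prelude.Def_Solvable
import Cfsg.Prelude.Def_PLocal
import Cfsg.Prelude.Def_LocalEven
import Cfsg.Agent.Lib.Cores
import Cfsg.Agent.PLocal.Uniserial
import Cfsg.Agent.OddOrderCharacters.PF9.SectionModule
import Cfsg.Agent.H41.EngelRing

/-!
# Chief factors below the `p`-core

* `commutator_le`, `pow_mem` : a chief factor `U / V` with `U` in a normal `p`-subgroup `R` is centralized by `R` and
  has exponent `p`.
* `exists_chief_rep` : the representation of the group on the chief factor over `ZMod p`.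
* `engel_le` : if `H = A T` with `T` a `p`-group, `A ⊵ R ≥ [A, A]`, `|A : R|` prime to `p`, and `g ∈ T` acts on
  the chief factor `U / V` below `R` with `[U, g, …, g] ≤ V` (`p - 1` times) then `[U, g] ≤ V`.
-/

set_option autoImplicit false

universe u

namespace Cfsg.Agent.H41.ChiefFactor

open Cfsg Subgroup
open scoped commutatorElement

variable {H : Type u} [Group H] {p : ℕ} [hp : Fact p.Prime]

/-- A normal `p`-subgroup centralizes each chief factor below it. -/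
theorem commutator_le [Finite H] {U V R : Subgroup H} (hUV : IsChiefFactor U V) (hRn : R.Normal)
    (hR : IsPGroup p R) (hUR : U ≤ R) : ⁅U, R⁆ ≤ V := by
  obtain ⟨hlt, hU, hV, hmin⟩ := hUV
  have h1 : (⁅U, R⁆ ⊔ V).Normal := inferInstance
  rcases hmin (⁅U, R⁆ ⊔ V) h1 le_sup_right (sup_le (Subgroup.commutator_le_left U R) hlt.le) with h2 | h2
  · exact h2 ▸ le_sup_left
  · exfalso
    have h3 : U ≤ V := by
      refine PLocal.Uniserial.le_of_le_commutator_sup R R U V hR.isNilpotent le_rfl hUR (hlt.le.trans hUR) ?_ ?_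
      · rw [Subgroup.normalizer_eq_top_iff.mpr hV]; exact le_top
      · rw [h2]
    exact absurd hlt (not_lt_of_ge h3)

theorem comm_mem [Finite H] {U V R : Subgroup H} (hUV : IsChiefFactor U V) (hRn : R.Normal)
    (hR : IsPGroup p R) (hUR : U ≤ R) {a b : H} (ha : a ∈ U) (hb : b ∈ R) : a * b * a⁻¹ * b⁻¹ ∈ V :=
  commutator_le hUV hRn hR hUR (Subgroup.commutator_mem_commutator ha hb)

/-- A chief factor below a normal `p`-subgroup has exponent `p`. -/
theorem pow_mem [Finite H] {U V R : Subgroup H} (hUV : IsChiefFactor U V) (hRn : R.Normal)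
    (hR : IsPGroup p R) (hUR : U ≤ R) {a : H} (ha : a ∈ U) : a ^ p ∈ V := by
  classical
  have hlt := hUV.1
  have hU := hUV.2.1
  have hV := hUV.2.2.1
  have hmin := hUV.2.2.2
  have hcom : ∀ x ∈ U, ∀ y ∈ U, (QuotientGroup.mk' V) x * (QuotientGroup.mk' V) y =
      (QuotientGroup.mk' V) y * (QuotientGroup.mk' V) x := by
    intro x hx y hy
    have h1 := comm_mem hUV hRn hR hUR hx (hUR hy)
    have h2 : (QuotientGroup.mk' V) (x * y * x⁻¹ * y⁻¹) = 1 := (QuotientGroup.eq_one_iff _).mpr h1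
    rw [map_mul, map_mul, map_mul, map_inv, map_inv, mul_inv_eq_one, mul_inv_eq_iff_eq_mul] at h2
    exact h2
  -- the subgroup of elements of `U` with `p`-th power in `V`
  let Om : Subgroup H :=
    { carrier := {x | x ∈ U ∧ x ^ p ∈ V}
      mul_mem' := by
        rintro x y ⟨hx, hx'⟩ ⟨hy, hy'⟩
        refine ⟨U.mul_mem hx hy, ?_⟩
        rw [← QuotientGroup.eq_one_iff] at hx' hy' ⊢
        have h1 : (QuotientGroup.mk' V) ((x * y) ^ p) =
            (QuotientGroup.mk' V) (x ^ p) * (QuotientGroup.mk' V) (y ^ p) := by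
          have h2 : Commute ((QuotientGroup.mk' V) x) ((QuotientGroup.mk' V) y) := hcom x hx y hy
          rw [map_pow, map_mul, h2.mul_pow, map_pow, map_pow]
        change (QuotientGroup.mk' V) ((x * y) ^ p) = 1
        rw [h1]
        change (QuotientGroup.mk' V) (x ^ p) = 1 at hx'
        change (QuotientGroup.mk' V) (y ^ p) = 1 at hy'
        rw [hx', hy', one_mul]
      one_mem' := ⟨U.one_mem, by rw [one_pow]; exact V.one_mem⟩
      inv_mem' := by
        rintro x ⟨hx, hx'⟩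
        exact ⟨U.inv_mem hx, by rw [inv_pow]; exact V.inv_mem hx'⟩ }
  have hOm : ∀ x, x ∈ Om ↔ x ∈ U ∧ x ^ p ∈ V := fun x => Iff.rfl
  have hOmn : Om.Normal := by
    refine ⟨fun x hx g => ?_⟩
    rw [hOm] at hx ⊢
    refine ⟨hU.conj_mem x hx.1 g, ?_⟩
    rw [conj_pow]
    exact hV.conj_mem _ hx.2 g
  have hVOm : V ≤ Om := fun x hx => ⟨hlt.le hx, V.pow_mem hx p⟩
  rcases hmin Om hOmn hVOm (fun x hx => hx.1) with h1 | h1
  · exfalso
    obtain ⟨u, hu, huV⟩ := SetLike.exists_of_lt hlt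
    obtain ⟨k, hk⟩ := hR ⟨u, hUR hu⟩
    have hk' : u ^ p ^ k = 1 := congrArg Subtype.val hk
    have hex : ∃ n, u ^ p ^ n ∈ V := ⟨k, by rw [hk']; exact V.one_mem⟩
    have hn := Nat.find_spec hex
    have hn0 : Nat.find hex ≠ 0 := by
      intro h0
      rw [h0, pow_zero, pow_one] at hn
      exact huV hn
    obtain ⟨n, hn1⟩ := Nat.exists_eq_succ_of_ne_zero hn0
    have h2 : u ^ p ^ n ∉ V := Nat.find_min hex (by omega)
    apply h2
    rw [← h1]
    refine ⟨U.pow_mem hu _, ?_⟩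
    rw [← pow_mul, ← pow_succ, ← Nat.succ_eq_add_one, ← hn1]
    exact hn
  · have : a ∈ Om := h1 ▸ ha
    exact this.2

/-- The representation on a chief factor. -/
theorem exists_chief_rep [Finite H] {U V R : Subgroup H} (hUV : IsChiefFactor U V) (hRn : R.Normal)
    (hR : IsPGroup p R) (hUR : U ≤ R) :
    ∃ (E : Type u) (_ : AddCommGroup E) (_ : Module (ZMod p) E) (π : ↥U → E) (ρ : H →* Module.End (ZMod p) E),
      Function.Surjective π ∧ (∀ a b : ↥U, π (a * b) = π a + π b) ∧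
      (∀ a : ↥U, π a = 0 ↔ (a : H) ∈ V) ∧ Nat.card E = V.relIndex U ∧
      ∀ (x : H) (h : ↥U), ρ x (π h) = π ⟨x * h * x⁻¹, hUV.2.1.conj_mem h h.2 x⟩ := by
  obtain ⟨E, i1, i2, π, h1, h2, h3, h4⟩ :=
    OddOrderCharacters.PF9.SectionModule.exists_module p U V
      (fun h _ k hk => hUV.2.2.1.conj_mem k hk h)
      (fun a ha b hb => comm_mem hUV hRn hR hUR ha (hUR hb))
      (fun a ha => pow_mem hUV hRn hR hUR ha)
  obtain ⟨ρ, hρ⟩ := OddOrderCharacters.PF9.SectionModule.exists_rep_normal (p := p) h1 h2 h3 hUV.2.1 hUV.2.2.1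
  exact ⟨E, i1, i2, π, ρ, h1, h2, h3, h4, hρ⟩

/-- `(ρ g - 1) ^ n` lands in the iterated commutator. -/
theorem sub_one_pow_apply {U : Subgroup H} (hU : U.Normal)
    {E : Type u} [AddCommGroup E] [Module (ZMod p) E] (π : ↥U → E) (ρ : H →* Module.End (ZMod p) E)
    (hadd : ∀ a b : ↥U, π (a * b) = π a + π b)
    (hρ : ∀ (x : H) (h : ↥U), ρ x (π h) = π ⟨x * h * x⁻¹, hU.conj_mem h h.2 x⟩) (g : H) (n : ℕ) (u : U) :
    ∃ w : U, (w : H) ∈ iterCommutator U (Subgroup.zpowers g) n ∧ ((ρ g - 1) ^ n) (π u) = π w := by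
  have hinv : ∀ a : ↥U, π a⁻¹ = -π a := fun a => OddOrderCharacters.PF9.SectionModule.pi_inv hadd a
  induction n with
  | zero => exact ⟨u, u.2, by simp⟩
  | succ n ih =>
    obtain ⟨w, hw, hw2⟩ := ih
    refine ⟨⟨g * w * g⁻¹ * (w : H)⁻¹, U.mul_mem (hU.conj_mem w w.2 g) (U.inv_mem w.2)⟩, ?_, ?_⟩
    · rw [PLocal.Uniserial.iterCommutator_succ, Subgroup.commutator_comm]
      exact Subgroup.commutator_mem_commutator (Subgroup.mem_zpowers g) hw
    · rw [pow_succ', Module.End.mul_apply, hw2, LinearMap.sub_apply, hρ, Module.End.one_apply, sub_eq_add_neg,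
        ← hinv, ← hadd]
      rfl

/-- **No Engel element.** -/
theorem engel_le [Finite H] {A R T U V : Subgroup H} (hAn : A.Normal) (hRn : R.Normal) (hR : IsPGroup p R)
    (hAA : ⁅A, A⁆ ≤ R) (hcop : (R.relIndex A).Coprime p) (hT : IsPGroup p T) (hAT : A ⊔ T = ⊤)
    (hUV : IsChiefFactor U V) (hUR : U ≤ R) {g : H} (hgT : g ∈ T)
    (hg : iterCommutator U (Subgroup.zpowers g) (p - 1) ≤ V) : ⁅U, Subgroup.zpowers g⁆ ≤ V := by
  obtain ⟨E, i1, i2, π, ρ, hsurj, hadd, hker, hcard, hρ⟩ := exists_chief_rep hUV hRn hR hUR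
  have hUn := hUV.2.1
  have hVn := hUV.2.2.1
  have hone : π 1 = 0 := OddOrderCharacters.PF9.SectionModule.pi_one hadd
  have hinv : ∀ a : ↥U, π a⁻¹ = -π a := fun a => OddOrderCharacters.PF9.SectionModule.pi_inv hadd a
  have hfinE : Finite E := Finite.of_surjective π hsurj
  -- `E` is nontrivial, of order divisible by `p`
  have hEp : p ∣ Nat.card E := by
    rw [hcard]
    exact PLocal.Uniserial.prime_dvd_relIndex_of_lt (hR.to_le hUR) hUV.1
  have hEnt : Nontrivial E := by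
    by_contra hcon
    rw [not_nontrivial_iff_subsingleton] at hcon
    have := Nat.card_of_subsingleton (0 : E)
    rw [this] at hEp
    exact hp.out.one_lt.ne' (Nat.dvd_one.mp hEp)
  have hchar : CharP (Module.End (ZMod p) E) p :=
    charP_of_injective_algebraMap (algebraMap (ZMod p) (Module.End (ZMod p) E)).injective p
  -- `R` acts trivially
  have hR1 : ∀ r ∈ R, ρ r = 1 := by
    intro r hr
    ext v
    obtain ⟨u, rfl⟩ := hsurj v
    rw [hρ, Module.End.one_apply, ← sub_eq_zero, sub_eq_add_neg, ← hinv, ← hadd, hker]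
    have h1 := comm_mem hUV hRn hR hUR u.2 hr
    have h2 := V.inv_mem h1
    change r * u * r⁻¹ * (u : H)⁻¹ ∈ V
    have h3 : r * u * r⁻¹ * (u : H)⁻¹ = ((u : H) * r * (u : H)⁻¹ * r⁻¹)⁻¹ := by group
    rw [h3]
    exact h2
  -- commuting operators
  have hAc : ∀ a ∈ A, ∀ b ∈ A, Commute (ρ a) (ρ b) := by
    intro a ha b hb
    have h1 : a * b * a⁻¹ * b⁻¹ ∈ R := hAA (Subgroup.commutator_mem_commutator ha hb)
    have h2 := hR1 _ h1
    have h3 : ρ (a * b) = ρ (a * b * a⁻¹ * b⁻¹) * ρ (b * a) := by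
      rw [← map_mul]; congr 1; group
    rw [h2, one_mul] at h3
    change ρ a * ρ b = ρ b * ρ a
    rw [← map_mul, ← map_mul, h3]
  have hRA : (R ⊓ A).subgroupOf A = R.subgroupOf A := by
    ext x
    simp [Subgroup.mem_subgroupOf]
  have hAm : ∀ b ∈ A, ρ b ^ (R.relIndex A) = 1 := by
    intro b hb
    rw [← map_pow]
    apply hR1
    have h1 : (R.subgroupOf A).Normal := inferInstance
    have h2 := (R.subgroupOf A).pow_index_mem (⟨b, hb⟩ : A)
    exact h2
  -- the operator equation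
  have hengel : (ρ g - 1) ^ (p - 1) = 0 := by
    ext v
    obtain ⟨u, rfl⟩ := hsurj v
    obtain ⟨w, hw, hw2⟩ := sub_one_pow_apply hUn π ρ hadd hρ g (p - 1) u
    rw [hw2, LinearMap.zero_apply, hker]
    exact hg hw
  have hgA : ∀ a ∈ A, ρ (g⁻¹ * a * g) = ρ a := by
    intro a ha
    refine EngelRing.ring_main ρ g A ?_ hAc (R.relIndex A) hcop hAm hengel a ha
    intro b hb
    have := hAn.conj_mem b hb g⁻¹
    rwa [inv_inv] at this
  -- the elements of `T` commuting with `A`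
  let N : Subgroup H :=
    { carrier := {t | t ∈ T ∧ ∀ a ∈ A, ρ t * ρ a = ρ a * ρ t}
      mul_mem' := by
        rintro x y ⟨hx, hx'⟩ ⟨hy, hy'⟩
        refine ⟨T.mul_mem hx hy, fun a ha => ?_⟩
        rw [map_mul, mul_assoc, hy' a ha, ← mul_assoc, hx' a ha, mul_assoc]
      one_mem' := ⟨T.one_mem, fun a _ => by rw [map_one, one_mul, mul_one]⟩
      inv_mem' := by
        rintro x ⟨hx, hx'⟩
        refine ⟨T.inv_mem hx, fun a ha => ?_⟩
        have h1 : ρ x⁻¹ * ρ x = 1 := by rw [← map_mul, inv_mul_cancel, map_one]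
        have h2 : ρ x * ρ x⁻¹ = 1 := by rw [← map_mul, mul_inv_cancel, map_one]
        calc ρ x⁻¹ * ρ a = ρ x⁻¹ * (ρ a * ρ x) * ρ x⁻¹ := by rw [mul_assoc, mul_assoc, h2, mul_one]
          _ = ρ x⁻¹ * (ρ x * ρ a) * ρ x⁻¹ := by rw [hx' a ha]
          _ = ρ a * ρ x⁻¹ := by rw [← mul_assoc (ρ x⁻¹), h1, one_mul] }
  have hN : ∀ t, t ∈ N ↔ t ∈ T ∧ ∀ a ∈ A, ρ t * ρ a = ρ a * ρ t := fun _ => Iff.rfl
  have hgN : g ∈ N := by
    refine ⟨hgT, fun a ha => ?_⟩
    have h1 := hgA a ha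
    rw [← map_mul, ← map_mul]
    calc ρ (g * a) = ρ g * ρ a := map_mul _ _ _
      _ = ρ g * ρ (g⁻¹ * a * g) := by rw [h1]
      _ = ρ (a * g) := by rw [← map_mul]; congr 1; group
  have hNT : ∀ s ∈ T, ∀ t ∈ N, s⁻¹ * t * s ∈ N := by
    intro s hs t ht
    refine ⟨T.mul_mem (T.mul_mem (T.inv_mem hs) ht.1) hs, fun a ha => ?_⟩
    have h1 : s * a * s⁻¹ ∈ A := hAn.conj_mem a ha s
    have h2 := ht.2 _ h1
    rw [← map_mul, ← map_mul] at h2 ⊢
    calc ρ (s⁻¹ * t * s * a) = ρ s⁻¹ * ρ (t * (s * a * s⁻¹)) * ρ s := by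
          rw [← map_mul, ← map_mul]; congr 1; group
      _ = ρ (a * (s⁻¹ * t * s)) := by rw [h2, ← map_mul, ← map_mul]; congr 1; group
  -- the fixed points of `N`
  let K : Subgroup H :=
    { carrier := {x | ∃ h : x ∈ U, ∀ t ∈ N, ρ t (π ⟨x, h⟩) = π ⟨x, h⟩}
      mul_mem' := by
        rintro x y ⟨hx, hx'⟩ ⟨hy, hy'⟩
        refine ⟨U.mul_mem hx hy, fun t ht => ?_⟩
        have h1 : π ⟨x * y, U.mul_mem hx hy⟩ = π ⟨x, hx⟩ + π ⟨y, hy⟩ := hadd ⟨x, hx⟩ ⟨y, hy⟩
        rw [h1, map_add, hx' t ht, hy' t ht]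
      one_mem' := ⟨U.one_mem, fun t _ => by
        have : π ⟨1, U.one_mem⟩ = 0 := hone
        rw [this, map_zero]⟩
      inv_mem' := by
        rintro x ⟨hx, hx'⟩
        refine ⟨U.inv_mem hx, fun t ht => ?_⟩
        have h1 : π ⟨x⁻¹, U.inv_mem hx⟩ = - π ⟨x, hx⟩ := hinv ⟨x, hx⟩
        rw [h1, map_neg, hx' t ht] }
  have hK : ∀ x, x ∈ K ↔ ∃ h : x ∈ U, ∀ t ∈ N, ρ t (π ⟨x, h⟩) = π ⟨x, h⟩ := fun _ => Iff.rfl
  have hKU : K ≤ U := fun x hx => hx.1
  have hVK : V ≤ K := by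
    intro x hx
    refine ⟨hUV.1.le hx, fun t _ => ?_⟩
    rw [(hker ⟨x, hUV.1.le hx⟩).mpr hx, map_zero]
  -- the normalizer of `K` contains `A` and `T`
  have hconjK : ∀ y : H, (∀ t ∈ N, ∀ v : E, (∀ s ∈ N, ρ s v = v) → ρ t (ρ y v) = ρ y v) →
      ∀ x ∈ K, y * x * y⁻¹ ∈ K := by
    rintro y hy x ⟨hx, hx'⟩
    refine ⟨hUn.conj_mem x hx y, fun t ht => ?_⟩
    rw [← hρ y ⟨x, hx⟩]
    exact hy t ht _ hx'
  have hKA : A ≤ Subgroup.normalizer (K : Set H) := by
    rw [Subgroup.le_normalizer_iff]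
    intro a ha
    apply hconjK
    intro t ht v hv
    rw [← Module.End.mul_apply, ht.2 a ha, Module.End.mul_apply, hv t ht]
  have hKT : T ≤ Subgroup.normalizer (K : Set H) := by
    rw [Subgroup.le_normalizer_iff]
    intro s hs
    apply hconjK
    intro t ht v hv
    have h1 : ρ t * ρ s = ρ s * ρ (s⁻¹ * t * s) := by
      rw [← map_mul, ← map_mul]; congr 1; group
    rw [← Module.End.mul_apply, h1, Module.End.mul_apply, hv _ (hNT s hs t ht)]
  have hKn : K.Normal := by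
    rw [← Subgroup.normalizer_eq_top_iff, eq_top_iff, ← hAT]
    exact sup_le hKA hKT
  have hKne : K ≠ V := by
    intro hKV
    let φ : N →* Module.End (ZMod p) E := ρ.comp N.subtype
    let _ : MulAction N E :=
      { smul := fun t v => ρ t v
        one_smul := fun v => by
          change ρ ((1 : N) : H) v = v
          rw [Subgroup.coe_one, map_one, Module.End.one_apply]
        mul_smul := fun s t v => by
          change ρ ((s * t : N) : H) v = ρ s (ρ t v)
          rw [Subgroup.coe_mul, map_mul, Module.End.mul_apply] }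
    have hNp : IsPGroup p N := hT.to_le (fun x hx => hx.1)
    have h0 : (0 : E) ∈ MulAction.fixedPoints N E := by
      intro t
      change ρ t 0 = 0
      rw [map_zero]
    obtain ⟨v, hv, hv0⟩ := hNp.exists_fixed_point_of_prime_dvd_card_of_fixed_point E hEp h0
    obtain ⟨u, rfl⟩ := hsurj v
    apply hv0
    symm
    rw [hker, ← hKV]
    exact ⟨u.2, fun t ht => hv ⟨t, ht⟩⟩
  have hKeq : K = U := (hUV.2.2.2 K hKn hVK hKU).resolve_left hKne
  rw [Subgroup.commutator_le]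
  intro x hx y hy
  have hyN : y ∈ N := by
    have : Subgroup.zpowers g ≤ N := by rw [Subgroup.zpowers_le]; exact hgN
    exact this hy
  rw [← hKeq] at hx
  obtain ⟨hxU, hx'⟩ := hx
  have h1 := hx' y⁻¹ (N.inv_mem hyN)
  have h1' := hx' y hyN
  rw [hρ, ← sub_eq_zero, sub_eq_add_neg, ← hinv, ← hadd, hker] at h1'
  have h2 : y * x * y⁻¹ * x⁻¹ ∈ V := h1'
  have h3 : ⁅x, y⁆ = (y * x * y⁻¹ * x⁻¹)⁻¹ := by
    rw [commutatorElement_def]; group
  rw [h3]
  exact V.inv_mem h2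

end Cfsg.Agent.H41.ChiefFactor
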