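import Cfsg.Agent.H45.Uni.Def
import Cfsg.Agent.LieClassical.OrthTrans

/-!
# Elements of order prime to the characteristic are diagonalizable in the odd orthogonal groups (helper41)

`stDiag` : over an algebraically closed field of characteristic `p ≠ 2` an element of `E (quadOdd m k)` (`2 ≤ m`) of
finite order prime to `p` is conjugate in `E (quadOdd m k)` to a diagonal element.
-/

set_option autoImplicit false
set_option linter.unusedSectionVars false

namespace Cfsg.Agent.H41.StDiag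

open QuadraticMap Cfsg.Agent.LieClassical.OrthCore Cfsg.Agent.LieClassical.OrthTrans
open Cfsg.Agent.LieClassical.OmegaReindex Cfsg.Agent.H45.Uni

section gen

variable {k : Type*} {V : Type*} [Field k] [AddCommGroup V] [Module k V] [FiniteDimensional k V]
  {Q : QuadraticForm k V}

/-- an eigenvector in a nonzero invariant submodule -/
theorem exists_eigen [IsAlgClosed k] (x : V ≃ₗ[k] V) (W : Submodule k V) (hW : ∀ w ∈ W, x w ∈ W) (h0 : W ≠ ⊥) :
    ∃ (v : V) (μ : kˣ), v ∈ W ∧ v ≠ 0 ∧ x v = (μ : k) • v := by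
  have hn : Nontrivial W := Submodule.nontrivial_iff_ne_bot.2 h0
  obtain ⟨μ, hμ⟩ := Module.End.exists_eigenvalue ((x : V →ₗ[k] V).restrict hW)
  obtain ⟨w, hw⟩ := hμ.exists_hasEigenvector
  have h1 := hw.apply_eq_smul
  have h2 : x (w : V) = μ • (w : V) := congrArg Subtype.val h1
  have h3 : (w : V) ≠ 0 := fun h => hw.2 (Subtype.ext h)
  have hμ0 : μ ≠ 0 := by
    rintro rfl
    rw [zero_smul] at h2
    exact h3 ((LinearEquiv.map_eq_zero_iff x).1 h2)
  exact ⟨w, Units.mk0 μ hμ0, w.2, h3, h2⟩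

/-- the orthogonal of a vector in a submodule -/
def cut (Q : QuadraticForm k V) (v : V) (W : Submodule k V) : Submodule k V := W ⊓ LinearMap.ker (polarBilin Q v)

theorem mem_cut {v w : V} {W : Submodule k V} : w ∈ cut Q v W ↔ w ∈ W ∧ polar Q v w = 0 := by
  rw [cut, Submodule.mem_inf, LinearMap.mem_ker]
  rfl

theorem finrank_cut (v : V) (W : Submodule k V) : Module.finrank k W ≤ Module.finrank k (cut Q v W) + 1 := by
  have h1 := Submodule.finrank_sup_add_finrank_inf_eq W (LinearMap.ker (polarBilin Q v))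
  have h2 := LinearMap.finrank_range_add_finrank_ker (polarBilin Q v)
  have h3 : Module.finrank k (LinearMap.range (polarBilin Q v)) ≤ 1 := by
    have := Submodule.finrank_le (LinearMap.range (polarBilin Q v))
    rwa [Module.finrank_self] at this
  have h4 := Submodule.finrank_le (W ⊔ LinearMap.ker (polarBilin Q v))
  unfold cut
  omega

theorem cut_stable {x : V ≃ₗ[k] V} (hx : x ∈ O Q) {v : V} {μ : kˣ} (hv : x v = (μ : k) • v) {W : Submodule k V}
    (hW : ∀ w ∈ W, x w ∈ W) : ∀ w ∈ cut Q v W, x w ∈ cut Q v W := by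
  intro w hw
  rw [mem_cut] at hw ⊢
  refine ⟨hW w hw.1, ?_⟩
  have h1 := polar_map hx v w
  rw [hv, polar_smul_left, hw.2, smul_eq_mul] at h1
  exact (mul_eq_zero.1 h1).resolve_left μ.ne_zero

/-- combination of two orthogonal nonsingular vectors -/
theorem exists_comb [IsAlgClosed k] (h2 : (2 : k) ≠ 0) {a b : V} (ha : Q a ≠ 0) (hb : Q b ≠ 0) (hab : polar Q a b = 0) :
    ∃ s : k, a + s • b ≠ 0 ∧ Q (a + s • b) = 0 := by
  obtain ⟨s, hs⟩ := IsAlgClosed.exists_eq_mul_self (-(Q a / Q b))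
  refine ⟨s, ?_, ?_⟩
  · intro h
    have h1 : polar Q a (a + s • b) = 2 * Q a := by
      rw [polar_add_right, polar_smul_right, hab, polar_self']
      simp
    rw [h, polar_zero_right] at h1
    exact mul_ne_zero h2 ha h1.symm
  · rw [Q_add, QuadraticMap.map_smul, polar_smul_right, hab, ← hs]
    simp only [smul_eq_mul]
    field_simp
    ring

/-- an isotropic eigenvector -/
theorem exists_sing_eigen [IsAlgClosed k] (h2 : (2 : k) ≠ 0) {x : V ≃ₗ[k] V} (hx : x ∈ O Q) (W : Submodule k V)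
    (hW : ∀ w ∈ W, x w ∈ W) (h3 : 3 ≤ Module.finrank k W) :
    ∃ (v : V) (μ : kˣ), v ∈ W ∧ v ≠ 0 ∧ Q v = 0 ∧ x v = (μ : k) • v := by
  have hne : ∀ {U : Submodule k V}, 1 ≤ Module.finrank k U → U ≠ ⊥ := by
    rintro U hU rfl
    rw [finrank_bot] at hU
    omega
  obtain ⟨a, α, ha, ha0, hxa⟩ := exists_eigen x W hW (hne (by omega))
  have f1 := finrank_cut (Q := Q) a W
  obtain ⟨b, β, hb, hb0, hxb⟩ := exists_eigen x (cut Q a W) (cut_stable hx hxa hW) (hne (by omega))
  have f2 := finrank_cut (Q := Q) b (cut Q a W)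
  obtain ⟨c, γ, hc, hc0, hxc⟩ := exists_eigen x (cut Q b (cut Q a W))
    (cut_stable hx hxb (cut_stable hx hxa hW)) (hne (by omega))
  rw [mem_cut] at hb hc
  have hc' := mem_cut.1 hc.1
  by_cases qa : Q a = 0
  · exact ⟨a, α, ha, ha0, qa, hxa⟩
  by_cases qb : Q b = 0
  · exact ⟨b, β, hb.1, hb0, qb, hxb⟩
  by_cases qc : Q c = 0
  · exact ⟨c, γ, hc'.1, hc0, qc, hxc⟩
  have sq : ∀ {v : V} {μ : kˣ}, Q v ≠ 0 → x v = (μ : k) • v → (μ : k) = 1 ∨ (μ : k) = -1 := by
    intro v μ hv hxv
    have h1 := mem_O.1 hx v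
    rw [hxv, QuadraticMap.map_smul, smul_eq_mul] at h1
    have h4 : (μ : k) * μ = 1 := by
      have : ((μ : k) * μ - 1) * Q v = 0 := by linear_combination h1
      have := (mul_eq_zero.1 this).resolve_right hv
      linear_combination this
    exact mul_self_eq_one_iff.1 h4
  have comb : ∀ {v w : V} {μ ν : kˣ}, v ∈ W → w ∈ W → Q v ≠ 0 → Q w ≠ 0 → polar Q v w = 0 → x v = (μ : k) • v →
      x w = (ν : k) • w → (μ : k) = ν → ∃ (v : V) (μ : kˣ), v ∈ W ∧ v ≠ 0 ∧ Q v = 0 ∧ x v = (μ : k) • v := by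
    intro v w μ ν hv hw qv qw hvw hxv hxw hμν
    obtain ⟨s, h4, h5⟩ := exists_comb h2 qv qw hvw
    refine ⟨v + s • w, μ, W.add_mem hv (W.smul_mem _ hw), h4, h5, ?_⟩
    rw [map_add, map_smul, hxv, hxw, hμν]
    module
  rcases sq qa hxa with h4 | h4 <;> rcases sq qb hxb with h5 | h5 <;> rcases sq qc hxc with h6 | h6
  · exact comb ha hb.1 qa qb hb.2 hxa hxb (h4.trans h5.symm)
  · exact comb ha hb.1 qa qb hb.2 hxa hxb (h4.trans h5.symm)
  · exact comb ha hc'.1 qa qc hc'.2 hxa hxc (h4.trans h6.symm)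
  · exact comb hb.1 hc'.1 qb qc hc.2 hxb hxc (h5.trans h6.symm)
  · exact comb hb.1 hc'.1 qb qc hc.2 hxb hxc (h5.trans h6.symm)
  · exact comb ha hc'.1 qa qc hc'.2 hxa hxc (h4.trans h6.symm)
  · exact comb ha hb.1 qa qb hb.2 hxa hxb (h4.trans h5.symm)
  · exact comb ha hb.1 qa qb hb.2 hxa hxb (h4.trans h5.symm)

theorem pow_stable {x : V ≃ₗ[k] V} {W : Submodule k V} (hW : ∀ w ∈ W, x w ∈ W) (i : ℕ) : ∀ w ∈ W, (x ^ i) w ∈ W := by
  induction i with
  | zero => intro w hw; simpa using hw
  | succ i ih =>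
    intro w hw
    rw [pow_succ']
    exact hW _ (ih w hw)

theorem pow_eigen {x : V ≃ₗ[k] V} {v : V} {μ : kˣ} (h : x v = (μ : k) • v) (i : ℕ) :
    (x ^ i) v = (μ : k) ^ i • v := by
  induction i with
  | zero => simp
  | succ i ih =>
    rw [pow_succ']
    change x ((x ^ i) v) = _
    rw [ih, map_smul, h, smul_smul, pow_succ]

theorem polar_sum_right {ι : Type*} (s : Finset ι) (v : V) (w : ι → V) :
    polar Q v (∑ i ∈ s, w i) = ∑ i ∈ s, polar Q v (w i) := by
  have := map_sum (polarBilin Q v) w s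
  exact this

/-- **A hyperbolic pair of eigenvectors.** -/
theorem exists_pair [IsAlgClosed k] (h2 : (2 : k) ≠ 0) {x : V ≃ₗ[k] V} (hx : x ∈ O Q) {n : ℕ} (hn : (n : k) ≠ 0)
    (hxn : x ^ n = 1) (W : Submodule k V) (hW : ∀ w ∈ W, x w ∈ W)
    (hnd : ∀ w ∈ W, (∀ w' ∈ W, polar Q w w' = 0) → w = 0) (h3 : 3 ≤ Module.finrank k W) :
    ∃ (e f : V) (μ : kˣ), e ∈ W ∧ f ∈ W ∧ Hyp Q e f ∧ x e = (μ : k) • e ∧ x f = ((μ⁻¹ : kˣ) : k) • f := by
  obtain ⟨v, μ, hv, hv0, qv, hxv⟩ := exists_sing_eigen h2 hx W hW h3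
  obtain ⟨w, hw, hvw⟩ : ∃ w ∈ W, polar Q v w ≠ 0 := by
    by_contra hcon
    push Not at hcon
    exact hv0 (hnd v hv hcon)
  have hμn : (μ : k) ^ n = 1 := by
    have h4 := pow_eigen hxv n
    rw [hxn] at h4
    have h5 : ((μ : k) ^ n - 1) • v = 0 := by
      rw [sub_smul, ← h4, one_smul]
      exact sub_self _
    have h6 := (smul_eq_zero.1 h5).resolve_right hv0
    linear_combination h6
  set f₁ := ∑ i ∈ Finset.range n, (μ : k) ^ i • (x ^ i) w with hf₁
  have hf₁W : f₁ ∈ W := W.sum_mem fun i _ => W.smul_mem _ (pow_stable hW i w hw)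
  have hxf₁ : x f₁ = ((μ⁻¹ : kˣ) : k) • f₁ := by
    have h4 : (μ : k) • x f₁ = f₁ := by
      have h5 : (μ : k) • x f₁ = ∑ i ∈ Finset.range n, (μ : k) ^ (i + 1) • (x ^ (i + 1)) w := by
        rw [hf₁, map_sum, Finset.smul_sum]
        refine Finset.sum_congr rfl fun i _ => ?_
        rw [map_smul, smul_smul, pow_succ' (μ : k), pow_succ' x]
        rfl
      rw [h5]
      have h6 := Finset.sum_range_succ (fun i => (μ : k) ^ i • (x ^ i) w) n
      have h7 := Finset.sum_range_succ' (fun i => (μ : k) ^ i • (x ^ i) w) n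
      rw [h6] at h7
      simp only [hμn, hxn, pow_zero] at h7
      exact (add_right_cancel h7).symm
    calc x f₁ = ((μ⁻¹ : kˣ) : k) • ((μ : k) • x f₁) := by rw [smul_smul, Units.inv_mul, one_smul]
      _ = _ := by rw [h4]
  have hvf₁ : polar Q v f₁ = n * polar Q v w := by
    rw [hf₁, polar_sum_right]
    have h4 : ∀ i ∈ Finset.range n, polar Q v ((μ : k) ^ i • (x ^ i) w) = polar Q v w := by
      intro i _
      rw [polar_smul_right]
      have h5 := polar_map ((O Q).pow_mem hx i) v w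
      rw [pow_eigen hxv, polar_smul_left] at h5
      exact h5
    rw [Finset.sum_congr rfl h4, Finset.sum_const, Finset.card_range, nsmul_eq_mul]
  have hc : polar Q v f₁ ≠ 0 := by
    rw [hvf₁]
    exact mul_ne_zero hn hvw
  obtain ⟨f₂, hf₂⟩ : ∃ f₂, f₂ = (polar Q v f₁)⁻¹ • f₁ := ⟨_, rfl⟩
  have hf₂W : f₂ ∈ W := hf₂ ▸ W.smul_mem _ hf₁W
  have hvf₂ : polar Q v f₂ = 1 := by
    rw [hf₂, polar_smul_right, smul_eq_mul, inv_mul_cancel₀ hc]
  have hxf₂ : x f₂ = ((μ⁻¹ : kˣ) : k) • f₂ := by
    rw [hf₂, map_smul, hxf₁, smul_comm]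
  have hQ : Q f₂ * μ = Q f₂ * ((μ⁻¹ : kˣ) : k) := by
    have h4 := mem_O.1 hx f₂
    rw [hxf₂, QuadraticMap.map_smul, smul_eq_mul] at h4
    have h5 : (μ : k) * ((μ⁻¹ : kˣ) : k) = 1 := Units.mul_inv μ
    linear_combination (-(μ : k)) * h4 + (((μ⁻¹ : kˣ) : k) * Q f₂) * h5
  refine ⟨v, f₂ - Q f₂ • v, μ, hv, W.sub_mem hf₂W (W.smul_mem _ hv), ⟨qv, ?_, ?_⟩, hxv, ?_⟩
  · rw [sub_eq_add_neg, ← neg_smul, Q_add, QuadraticMap.map_smul, qv, polar_smul_right, polar_comm Q f₂ v, hvf₂]
    simp
  · rw [sub_eq_add_neg, ← neg_smul, polar_add_right, polar_smul_right, hvf₂, polar_self_of_sing qv]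
    simp
  · rw [map_sub, map_smul, hxf₂, hxv, smul_sub, smul_smul, smul_smul, hQ, mul_comm (Q f₂)]

/-! ### families of hyperbolic pairs of eigenvectors -/

/-- pairwise orthogonal hyperbolic pairs of eigenvectors -/
structure Fam (Q : QuadraticForm k V) (x : V ≃ₗ[k] V) {r : ℕ} (e f : Fin r → V) (t : Fin r → kˣ) : Prop where
  qe : ∀ i, Q (e i) = 0
  qf : ∀ i, Q (f i) = 0
  ee : ∀ i j, polar Q (e i) (e j) = 0
  ff : ∀ i j, polar Q (f i) (f j) = 0
  ef : ∀ i j, polar Q (e i) (f j) = if i = j then 1 else 0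
  xe : ∀ i, x (e i) = (t i : k) • e i
  xf : ∀ i, x (f i) = (((t i)⁻¹ : kˣ) : k) • f i

theorem Fam.fe {x : V ≃ₗ[k] V} {r : ℕ} {e f : Fin r → V} {t : Fin r → kˣ} (h : Fam Q x e f t) (i j : Fin r) :
    polar Q (f i) (e j) = if i = j then 1 else 0 := by
  rw [polar_comm, h.ef]
  simp only [eq_comm]

/-- the orthogonal of a family -/
def orth (Q : QuadraticForm k V) {r : ℕ} (e f : Fin r → V) : Submodule k V :=
  LinearMap.ker (LinearMap.pi fun j : Fin r ⊕ Fin r => polarBilin Q (Sum.elim e f j))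

theorem mem_orth {r : ℕ} {e f : Fin r → V} {w : V} :
    w ∈ orth Q e f ↔ (∀ i, polar Q (e i) w = 0) ∧ ∀ i, polar Q (f i) w = 0 := by
  rw [orth, LinearMap.mem_ker]
  constructor
  · intro h
    exact ⟨fun i => congrFun h (.inl i), fun i => congrFun h (.inr i)⟩
  · rintro ⟨h1, h2⟩
    funext j
    rcases j with j | j
    · exact h1 j
    · exact h2 j

theorem finrank_orth {r : ℕ} (e f : Fin r → V) : Module.finrank k V ≤ Module.finrank k (orth Q e f) + 2 * r := by
  have h1 := LinearMap.finrank_range_add_finrank_ker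
    (LinearMap.pi fun j : Fin r ⊕ Fin r => polarBilin Q (Sum.elim e f j))
  have h2 := Submodule.finrank_le (LinearMap.range
    (LinearMap.pi fun j : Fin r ⊕ Fin r => polarBilin Q (Sum.elim e f j)))
  rw [Module.finrank_fintype_fun_eq_card, Fintype.card_sum, Fintype.card_fin] at h2
  unfold orth
  omega

theorem orth_stable {x : V ≃ₗ[k] V} (hx : x ∈ O Q) {r : ℕ} {e f : Fin r → V} {t : Fin r → kˣ} (h : Fam Q x e f t) :
    ∀ w ∈ orth Q e f, x w ∈ orth Q e f := by
  intro w hw
  rw [mem_orth] at hw ⊢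
  refine ⟨fun i => ?_, fun i => ?_⟩
  · have h1 := polar_map hx (e i) w
    rw [h.xe, polar_smul_left, hw.1, smul_eq_mul] at h1
    exact (mul_eq_zero.1 h1).resolve_left (t i).ne_zero
  · have h1 := polar_map hx (f i) w
    rw [h.xf, polar_smul_left, hw.2, smul_eq_mul] at h1
    exact (mul_eq_zero.1 h1).resolve_left ((t i)⁻¹).ne_zero

theorem orth_nondeg (hQ : Nondeg Q) {x : V ≃ₗ[k] V} {r : ℕ} {e f : Fin r → V} {t : Fin r → kˣ}
    (h : Fam Q x e f t) : ∀ w ∈ orth Q e f, (∀ w' ∈ orth Q e f, polar Q w w' = 0) → w = 0 := by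
  intro w hw hall
  rw [mem_orth] at hw
  refine hQ w fun v => ?_
  set v' := v - (∑ i, polar Q (f i) v • e i) - ∑ i, polar Q (e i) v • f i with hv'
  have h1 : v' ∈ orth Q e f := by
    rw [mem_orth]
    refine ⟨fun j => ?_, fun j => ?_⟩
    · rw [hv', polar_sub_right, polar_sub_right, polar_sum_right, polar_sum_right]
      simp only [polar_smul_right, h.ee, h.ef, smul_eq_mul, mul_zero, Finset.sum_const_zero, mul_ite, mul_one,
        Finset.sum_ite_eq, Finset.mem_univ, if_true]
      ring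
    · rw [hv', polar_sub_right, polar_sub_right, polar_sum_right, polar_sum_right]
      simp only [polar_smul_right, h.ff, h.fe, smul_eq_mul, mul_zero, Finset.sum_const_zero, mul_ite, mul_one,
        Finset.sum_ite_eq, Finset.mem_univ, if_true]
      ring
  have h2 := hall v' h1
  rw [hv', polar_sub_right, polar_sub_right, polar_sum_right, polar_sum_right] at h2
  simp only [polar_smul_right, polar_comm Q w (e _), polar_comm Q w (f _), hw.1, hw.2, smul_zero,
    Finset.sum_const_zero, sub_zero] at h2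
  exact h2

theorem Fam.cons {x : V ≃ₗ[k] V} {r : ℕ} {e f : Fin r → V} {t : Fin r → kˣ} (h : Fam Q x e f t) {a b : V} {μ : kˣ}
    (ha : a ∈ orth Q e f) (hb : b ∈ orth Q e f) (hab : Hyp Q a b) (hxa : x a = (μ : k) • a)
    (hxb : x b = ((μ⁻¹ : kˣ) : k) • b) :
    Fam Q x (Fin.cons a e : Fin (r + 1) → V) (Fin.cons b f : Fin (r + 1) → V) (Fin.cons μ t : Fin (r + 1) → kˣ) := by
  rw [mem_orth] at ha hb
  have h0 : ∀ i : Fin r, (0 : Fin (r + 1)) ≠ i.succ := fun i => (Fin.succ_ne_zero i).symm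
  refine ⟨?_, ?_, ?_, ?_, ?_, ?_, ?_⟩
  · refine Fin.cases ?_ fun i => ?_
    · exact hab.left
    · exact h.qe i
  · refine Fin.cases ?_ fun i => ?_
    · exact hab.right
    · exact h.qf i
  · refine Fin.cases ?_ fun i => ?_ <;> refine Fin.cases ?_ fun j => ?_
    · exact hab.polar_left
    · rw [polar_comm]; exact ha.1 j
    · exact ha.1 i
    · exact h.ee i j
  · refine Fin.cases ?_ fun i => ?_ <;> refine Fin.cases ?_ fun j => ?_
    · exact hab.polar_right
    · rw [polar_comm]; exact hb.2 j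
    · exact hb.2 i
    · exact h.ff i j
  · refine Fin.cases ?_ fun i => ?_ <;> refine Fin.cases ?_ fun j => ?_
    · rw [if_pos rfl]; exact hab.pair
    · rw [if_neg (h0 j), polar_comm]; exact ha.2 j
    · rw [if_neg (h0 i).symm]; exact hb.1 i
    · rw [Fin.cons_succ, Fin.cons_succ, h.ef]
      simp only [Fin.succ_inj]
  · refine Fin.cases ?_ fun i => ?_
    · exact hxa
    · exact h.xe i
  · refine Fin.cases ?_ fun i => ?_
    · exact hxb
    · exact h.xf i

theorem exists_fam [IsAlgClosed k] (h2 : (2 : k) ≠ 0) (hQ : Nondeg Q) {x : V ≃ₗ[k] V} (hx : x ∈ O Q) {n : ℕ}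
    (hn : (n : k) ≠ 0) (hxn : x ^ n = 1) {m : ℕ} (hm : Module.finrank k V = 2 * m + 1) :
    ∀ r ≤ m, ∃ (e f : Fin r → V) (t : Fin r → kˣ), Fam Q x e f t := by
  intro r
  induction r with
  | zero =>
    intro _
    exact ⟨Fin.elim0, Fin.elim0, Fin.elim0, ⟨fun i => i.elim0, fun i => i.elim0, fun i => i.elim0, fun i => i.elim0,
      fun i => i.elim0, fun i => i.elim0, fun i => i.elim0⟩⟩
  | succ r ih =>
    intro hr
    obtain ⟨e, f, t, h⟩ := ih (by omega)
    have h3 := finrank_orth (Q := Q) e f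
    obtain ⟨a, b, μ, ha, hb, hab, hxa, hxb⟩ := exists_pair h2 hx hn hxn (orth Q e f) (orth_stable hx h)
      (orth_nondeg hQ h) (by omega)
    exact ⟨_, _, _, h.cons ha hb hab hxa hxb⟩

/-- a vector of norm 1 in the orthogonal -/
theorem exists_norm_one [IsAlgClosed k] (W : Submodule k V) (h0 : W ≠ ⊥)
    (hnd : ∀ w ∈ W, (∀ w' ∈ W, polar Q w w' = 0) → w = 0) : ∃ w ∈ W, Q w = 1 := by
  obtain ⟨w, hw, hq⟩ : ∃ w ∈ W, Q w ≠ 0 := by
    by_contra hcon
    push Not at hcon
    apply h0
    rw [eq_bot_iff]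
    intro w hw
    refine (Submodule.mem_bot k).2 (hnd w hw fun w' hw' => ?_)
    have h1 := hcon _ (W.add_mem hw hw')
    rw [Q_add, hcon w hw, hcon w' hw'] at h1
    simpa using h1
  obtain ⟨s, hs⟩ := IsAlgClosed.exists_eq_mul_self ((Q w)⁻¹)
  refine ⟨s • w, W.smul_mem _ hw, ?_⟩
  rw [QuadraticMap.map_smul, smul_eq_mul, ← hs, inv_mul_cancel₀ hq]

/-- the hypotheses `Good` hold -/
theorem good [IsAlgClosed k] (h2 : (2 : k) ≠ 0) (hQ : Nondeg Q) (hd : 5 ≤ Module.finrank k V) : Good Q := by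
  have key : ∀ (u : Fin 2 → V), ∃ w : V, w ≠ 0 ∧ Q w = 0 ∧ ∀ i, polar Q (u i) w = 0 := by
    intro u
    obtain ⟨a, ha0, ha⟩ := exists_perp_ne (Q := Q) u (by omega)
    obtain ⟨b, hb0, hb⟩ := exists_perp_ne (Q := Q) (Fin.cons a u : Fin 3 → V) (by omega)
    by_cases qa : Q a = 0
    · exact ⟨a, ha0, qa, ha⟩
    by_cases qb : Q b = 0
    · exact ⟨b, hb0, qb, fun i => hb i.succ⟩
    obtain ⟨s, h3, h4⟩ := exists_comb h2 qa qb (hb 0)
    refine ⟨_, h3, h4, fun i => ?_⟩
    have := hb i.succ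
    rw [Fin.cons_succ] at this
    rw [polar_add_right, polar_smul_right, ha, this]
    simp
  refine ⟨hQ, hd, ?_, ?_⟩
  · obtain ⟨w, h3, h4, -⟩ := key ![0, 0]
    exact ⟨w, h3, h4⟩
  · intro x y _
    obtain ⟨w, h3, h4, h5⟩ := key ![x, y]
    exact ⟨w, h3, h4, h5 0, h5 1⟩

theorem det_of_mem_E (hG : Good Q) {g : V ≃ₗ[k] V} (hg : g ∈ E Q) : LinearEquiv.det g = 1 := by
  rw [← hG.commutator_eq_E] at hg
  have h : ⁅O Q, O Q⁆ ≤ (LinearEquiv.det (R := k) (M := V)).ker := by
    rw [Subgroup.commutator_le]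
    intro a _ b _
    rw [MonoidHom.mem_ker, map_commutatorElement, commutatorElement_eq_one_iff_mul_comm]
    exact mul_comm _ _
  exact h hg

/-- `O = E ∪ E r` for a reflection `r` of norm 1 -/
theorem mem_E_or [IsAlgClosed k] (hG : Good Q) {z : V} (hz : Q z = 1) (hz0 : Q z ≠ 0) {g : V ≃ₗ[k] V} (hg : g ∈ O Q) :
    g ∈ E Q ∨ g * refl Q z hz0 ∈ E Q := by
  set r := refl Q z hz0 with hr
  have hrO : r ∈ O Q := refl_mem_O hz0
  have hrr : r * r = 1 := refl_mul_self hz0
  have hri : r⁻¹ = r := refl_inv hz0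
  have hcj : ∀ h ∈ E Q, r * h * r ∈ E Q := fun h hh => by
    have := conj_mem_E hrO hh
    rwa [hri] at this
  rw [O_eq_closure hG.nondeg] at hg
  induction hg using Subgroup.closure_induction with
  | mem g hg =>
    rcases hg with hg | hg
    · right
      obtain ⟨v, hv, rfl⟩ := hg
      obtain ⟨s, hs⟩ := IsAlgClosed.exists_eq_mul_self ((Q v)⁻¹)
      have hs0 : s ≠ 0 := by
        rintro rfl
        rw [mul_zero] at hs
        exact inv_ne_zero hv hs
      have h1 : Q (s • v) = 1 := by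
        rw [QuadraticMap.map_smul, smul_eq_mul, ← hs, inv_mul_cancel₀ hv]
      have h2 : Q (s • v) ≠ 0 := by rw [h1]; exact one_ne_zero
      rw [← refl_smul hv hs0 h2]
      exact hG.refl_mul_refl_mem hz0 h2 (hz.trans h1.symm)
    · left
      exact Subgroup.subset_closure hg
  | one => exact Or.inl (E Q).one_mem
  | mul a b _ _ ha hb =>
    rcases ha with ha | ha <;> rcases hb with hb | hb
    · exact Or.inl ((E Q).mul_mem ha hb)
    · right
      rw [mul_assoc]
      exact (E Q).mul_mem ha hb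
    · right
      have : a * b * r = (a * r) * (r * b * r) := by
        calc a * b * r = a * 1 * b * r := by rw [mul_one]
          _ = a * (r * r) * b * r := by rw [hrr]
          _ = (a * r) * (r * b * r) := by group
      rw [this]
      exact (E Q).mul_mem ha (hcj b hb)
    · left
      have : a * b = (a * r) * (r * (b * r) * r) := by
        calc a * b = a * 1 * b * 1 := by rw [mul_one, mul_one]
          _ = a * (r * r) * b * (r * r) := by rw [hrr]
          _ = _ := by group
      rw [this]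
      exact (E Q).mul_mem ha (hcj _ hb)
  | inv a _ ha =>
    rcases ha with ha | ha
    · exact Or.inl ((E Q).inv_mem ha)
    · right
      have h1 := hcj _ ((E Q).inv_mem ha)
      rw [mul_inv_rev, hri] at h1
      have h2 : r * (r * a⁻¹) * r = a⁻¹ * r := by
        rw [← mul_assoc r r, hrr, one_mul]
      rwa [h2] at h1

end gen

/-! ### coordinates -/

section coord

variable {m : ℕ} {k : Type*} [Field k]

/-- the images of the basis vectors -/
def famV {V : Type*} (w : V) (e f : Fin m → V) : Ix m → V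
  | .inl _ => w
  | .inr (.inl i) => e i
  | .inr (.inr i) => f i

theorem single_inl (c : k) : (Pi.single (.inl ()) c : Ix m → k) = c • vz := by
  rw [vz, ← Pi.single_smul, smul_eq_mul, mul_one]

theorem single_e (i : Fin m) (c : k) : (Pi.single (.inr (.inl i)) c : Ix m → k) = c • ve i := by
  rw [ve, ← Pi.single_smul, smul_eq_mul, mul_one]

theorem single_f (i : Fin m) (c : k) : (Pi.single (.inr (.inr i)) c : Ix m → k) = c • vf i := by
  rw [vf, ← Pi.single_smul, smul_eq_mul, mul_one]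

/-- two linear maps which agree on the basis -/
theorem lin_ext {V : Type*} [AddCommGroup V] [Module k V] {a b : (Ix m → k) →ₗ[k] V} (hz : a vz = b vz)
    (he : ∀ i, a (ve i) = b (ve i)) (hf : ∀ i, a (vf i) = b (vf i)) : a = b := by
  refine LinearMap.pi_ext' fun j => ?_
  rcases j with j | j | j
  · apply LinearMap.ext
    intro c
    rw [LinearMap.comp_apply, LinearMap.comp_apply, LinearMap.single_apply, single_inl, map_smul, map_smul, hz]
  · apply LinearMap.ext
    intro c
    rw [LinearMap.comp_apply, LinearMap.comp_apply, LinearMap.single_apply, single_e, map_smul, map_smul, he]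
  · apply LinearMap.ext
    intro c
    rw [LinearMap.comp_apply, LinearMap.comp_apply, LinearMap.single_apply, single_f, map_smul, map_smul, hf]

/-- the linear map with the given images of the basis vectors -/
noncomputable def fLin {V : Type*} [AddCommGroup V] [Module k V] (w : V) (e f : Fin m → V) : (Ix m → k) →ₗ[k] V :=
  Fintype.linearCombination k (famV w e f)

theorem fLin_z {V : Type*} [AddCommGroup V] [Module k V] (w : V) (e f : Fin m → V) : fLin w e f (vz : Ix m → k) = w := by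
  rw [fLin, vz, Fintype.linearCombination_apply_single, one_smul]
  rfl

theorem fLin_e {V : Type*} [AddCommGroup V] [Module k V] (w : V) (e f : Fin m → V) (i : Fin m) :
    fLin w e f (ve i : Ix m → k) = e i := by
  rw [fLin, ve, Fintype.linearCombination_apply_single, one_smul]
  rfl

theorem fLin_f {V : Type*} [AddCommGroup V] [Module k V] (w : V) (e f : Fin m → V) (i : Fin m) :
    fLin w e f (vf i : Ix m → k) = f i := by
  rw [fLin, vf, Fintype.linearCombination_apply_single, one_smul]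
  rfl

theorem polar_fLin {V : Type*} [AddCommGroup V] [Module k V] [FiniteDimensional k V] {Q : QuadraticForm k V} {w : V}
    {e f : Fin m → V} {t : Fin m → kˣ} {x : V ≃ₗ[k] V} (h : Fam Q x e f t) (hw : w ∈ orth Q e f) (hqw : Q w = 1)
    (u v : Ix m → k) : polar Q (fLin w e f u) (fLin w e f v) = polar (quadOdd m k) u v := by
  rw [mem_orth] at hw
  have key : (polarBilin Q).compl₁₂ (fLin w e f) (fLin w e f) = polarBilin (quadOdd m k) := by
    apply lin_ext
    · apply lin_ext
      · change polar Q (fLin w e f vz) (fLin w e f vz) = polar (quadOdd m k) vz vz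
        rw [fLin_z, polar_self', polar_self', hqw, Q_vz]
      · intro i
        change polar Q (fLin w e f vz) (fLin w e f (ve i)) = polar (quadOdd m k) vz (ve i)
        rw [fLin_z, fLin_e, polar_comm, hw.1, polar_vz]
        simp [ve]
      · intro i
        change polar Q (fLin w e f vz) (fLin w e f (vf i)) = polar (quadOdd m k) vz (vf i)
        rw [fLin_z, fLin_f, polar_comm, hw.2, polar_vz]
        simp [vf]
    · intro i
      apply lin_ext
      · change polar Q (fLin w e f (ve i)) (fLin w e f vz) = polar (quadOdd m k) (ve i) vz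
        rw [fLin_z, fLin_e, hw.1, polar_ve]
        simp [vz]
      · intro j
        change polar Q (fLin w e f (ve i)) (fLin w e f (ve j)) = polar (quadOdd m k) (ve i) (ve j)
        rw [fLin_e, fLin_e, h.ee, polar_ve]
        simp [ve]
      · intro j
        change polar Q (fLin w e f (ve i)) (fLin w e f (vf j)) = polar (quadOdd m k) (ve i) (vf j)
        rw [fLin_e, fLin_f, h.ef, polar_ve]
        simp [vf, Pi.single_apply]
    · intro i
      apply lin_ext
      · change polar Q (fLin w e f (vf i)) (fLin w e f vz) = polar (quadOdd m k) (vf i) vz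
        rw [fLin_z, fLin_f, hw.2, polar_vf]
        simp [vz]
      · intro j
        change polar Q (fLin w e f (vf i)) (fLin w e f (ve j)) = polar (quadOdd m k) (vf i) (ve j)
        rw [fLin_e, fLin_f, h.fe, polar_vf]
        simp [ve, Pi.single_apply]
      · intro j
        change polar Q (fLin w e f (vf i)) (fLin w e f (vf j)) = polar (quadOdd m k) (vf i) (vf j)
        rw [fLin_f, fLin_f, h.ff, polar_vf]
        simp [vf]
  exact LinearMap.congr_fun (LinearMap.congr_fun key u) v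

theorem tor_ve (t : Fin m → kˣ) (i : Fin m) : tor t (ve i : Ix m → k) = (t i : k) • ve i := by
  funext j
  rw [tor_apply, Pi.smul_apply, smul_eq_mul]
  by_cases h : j = .inr (.inl i)
  · subst h; rfl
  · rw [ve, Pi.single_eq_of_ne h, mul_zero, mul_zero]

theorem tor_vf (t : Fin m → kˣ) (i : Fin m) : tor t (vf i : Ix m → k) = (((t i)⁻¹ : kˣ) : k) • vf i := by
  funext j
  rw [tor_apply, Pi.smul_apply, smul_eq_mul]
  by_cases h : j = .inr (.inr i)
  · subst h; rfl
  · rw [vf, Pi.single_eq_of_ne h, mul_zero, mul_zero]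

theorem tor_vz (t : Fin m → kˣ) : tor t (vz : Ix m → k) = vz := by
  funext j
  rw [tor_apply]
  by_cases h : j = .inl ()
  · subst h
    change ((1 : kˣ) : k) * _ = _
    rw [Units.val_one, one_mul]
  · rw [vz, Pi.single_eq_of_ne h, mul_zero]

/-- the last coordinate -/
def zLin (c : kˣ) : (Ix m → k) ≃ₗ[k] (Ix m → k) :=
  LinearEquiv.piCongrRight fun j => LinearEquiv.smulOfUnit (Sum.elim (fun _ => c) (fun _ => 1) j)

theorem zLin_apply (c : kˣ) (v : Ix m → k) (j : Ix m) :
    zLin c v j = ((Sum.elim (fun _ => c) (fun _ => 1) j : kˣ) : k) * v j := rfl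

theorem det_zLin (c : kˣ) : (LinearEquiv.det (zLin c : (Ix m → k) ≃ₗ[k] (Ix m → k)) : k) = c := by
  rw [LinearEquiv.coe_det]
  have h : ((zLin c : (Ix m → k) ≃ₗ[k] (Ix m → k)) : (Ix m → k) →ₗ[k] (Ix m → k)) =
      Matrix.toLin' (Matrix.diagonal fun j : Ix m => ((Sum.elim (fun _ => c) (fun _ => 1) j : kˣ) : k)) := by
    apply LinearMap.ext
    intro v
    funext j
    rw [Matrix.toLin'_apply, Matrix.mulVec_diagonal]
    rfl
  rw [h, LinearMap.det_toLin', Matrix.det_diagonal, Fintype.prod_sum_type]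
  simp

theorem two_ne_zero_of {p : ℕ} [CharP k p] (hp : p.Prime) (hp2 : p ≠ 2) : (2 : k) ≠ 0 := by
  intro h
  have h3 : ((2 : ℕ) : k) = 0 := by exact_mod_cast h
  rw [CharP.cast_eq_zero_iff k p] at h3
  exact hp2 ((Nat.prime_dvd_prime_iff_eq hp Nat.prime_two).1 h3)

theorem finrank_Ix : Module.finrank k (Unit ⊕ (Fin m ⊕ Fin m) → k) = 2 * m + 1 := by
  rw [Module.finrank_fintype_fun_eq_card, Fintype.card_sum, Fintype.card_sum, Fintype.card_fin]
  simp
  ring

theorem good_odd [IsAlgClosed k] (h2 : (2 : k) ≠ 0) (hm : 2 ≤ m) : Good (quadOdd m k) :=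
  good h2 (nondeg_of_nondegenerate (quadOdd_nondegenerate h2)) (by have := finrank_Ix (m := m) (k := k); omega)

/-- **`O = ± E`.** -/
theorem mem_E_or_neg [IsAlgClosed k] (h2 : (2 : k) ≠ 0) (hm : 2 ≤ m) {g : (Ix m → k) ≃ₗ[k] (Ix m → k)}
    (hg : g ∈ O (quadOdd m k)) : g ∈ E (quadOdd m k) ∨ LinearEquiv.neg k * g ∈ E (quadOdd m k) := by
  have hG : Good (quadOdd m k) := good_odd h2 hm
  have hz0 : (quadOdd m k) vz ≠ 0 := by rw [Q_vz]; exact one_ne_zero
  set r := refl (quadOdd m k) vz hz0 with hr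
  set ν : (Ix m → k) ≃ₗ[k] (Ix m → k) := LinearEquiv.neg k with hν
  have hνa : ∀ v, ν v = -v := fun v => rfl
  have hνO : ν ∈ O (quadOdd m k) := by
    rw [mem_O]
    intro v
    rw [hνa, QuadraticMap.map_neg]
  have hνE : ν ∉ E (quadOdd m k) := by
    intro h
    have h3 := congrArg Units.val (det_of_mem_E hG h)
    rw [LinearEquiv.coe_det] at h3
    have h4 : (ν : (Ix m → k) →ₗ[k] (Ix m → k)) = (-1 : k) • LinearMap.id := by
      apply LinearMap.ext
      intro v
      change -v = (-1 : k) • v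
      rw [neg_one_smul]
    rw [h4, LinearMap.det_smul, LinearMap.det_id, mul_one, finrank_Ix, Odd.neg_one_pow ⟨m, rfl⟩] at h3
    apply h2
    have h5 : (-1 : k) = 1 := h3
    linear_combination -h5
  rcases mem_E_or hG Q_vz hz0 hg with h | h
  · exact Or.inl h
  · right
    have h3 := (mem_E_or hG Q_vz hz0 hνO).resolve_left hνE
    have h4 := (E (quadOdd m k)).mul_mem h ((E (quadOdd m k)).inv_mem h3)
    rw [← hr] at h4
    have h5 : g * r * (ν * r)⁻¹ = ν * g := by
      have h6 : ν⁻¹ = ν := by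
        rw [inv_eq_iff_mul_eq_one]
        apply LinearEquiv.ext
        intro v
        change ν (ν v) = v
        rw [hνa, hνa, neg_neg]
      rw [mul_inv_rev, h6]
      have h7 : g * ν = ν * g := by
        apply LinearEquiv.ext
        intro v
        change g (ν v) = ν (g v)
        rw [hνa, hνa, map_neg]
      calc g * r * (r⁻¹ * ν) = g * ν := by group
        _ = ν * g := h7
    rwa [h5] at h4

/-- **Elements of finite order prime to the characteristic are diagonalizable.** -/
theorem stDiag [IsAlgClosed k] (p : ℕ) [CharP k p] (hp : p.Prime) (hp2 : p ≠ 2) (hm : 2 ≤ m) : StDiag p m k := by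
  intro x hx0 hxp
  have h2 : (2 : k) ≠ 0 := two_ne_zero_of hp hp2
  have hn : ((orderOf x : ℕ) : k) ≠ 0 := by
    intro h
    rw [CharP.cast_eq_zero_iff k p] at h
    have := Nat.Coprime.eq_one_of_dvd hxp.symm h
    exact hp.one_lt.ne' this
  have hQ : Nondeg (quadOdd m k) := nondeg_of_nondegenerate (quadOdd_nondegenerate h2)
  have hdim : Module.finrank k (Unit ⊕ (Fin m ⊕ Fin m) → k) = 2 * m + 1 := by
    rw [Module.finrank_fintype_fun_eq_card, Fintype.card_sum, Fintype.card_sum, Fintype.card_fin]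
    simp
    ring
  have hxO : (x : (Ix m → k) ≃ₗ[k] (Ix m → k)) ∈ O (quadOdd m k) := E_le_O x.2
  have hxn : (x : (Ix m → k) ≃ₗ[k] (Ix m → k)) ^ orderOf x = 1 := by
    have := pow_orderOf_eq_one x
    exact_mod_cast congrArg Subtype.val this
  have hG : Good (quadOdd m k) := good h2 hQ (by omega)
  obtain ⟨e, f, t, h⟩ := exists_fam h2 hQ hxO hn hxn hdim m le_rfl
  have hfr := finrank_orth (Q := quadOdd m k) e f
  obtain ⟨w, hw, hqw⟩ := exists_norm_one (Q := quadOdd m k) (orth (quadOdd m k) e f) (by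
    intro h0
    rw [h0, finrank_bot] at hfr
    omega) (orth_nondeg hQ h)
  have hpol := polar_fLin h hw hqw
  have hinj : Function.Injective (fLin w e f : (Ix m → k) →ₗ[k] (Ix m → k)) := by
    rw [← LinearMap.ker_eq_bot, LinearMap.ker_eq_bot']
    intro v hv
    refine hQ v fun u => ?_
    rw [← hpol, hv, polar_zero_left]
  set g : (Ix m → k) ≃ₗ[k] (Ix m → k) := LinearEquiv.ofInjectiveEndo (fLin w e f) hinj with hg
  have hgv : ∀ v, g v = fLin w e f v := fun v => rfl
  have hgO : g ∈ O (quadOdd m k) := by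
    rw [mem_O]
    intro v
    have h3 := hpol v v
    rw [polar_self', polar_self'] at h3
    exact mul_left_cancel₀ h2 h3
  -- the matrix of `x` in the new basis
  set D := g⁻¹ * (x : (Ix m → k) ≃ₗ[k] (Ix m → k)) * g with hD
  have hgD : ∀ v, g (D v) = x.1 (g v) := fun v => by
    change g (g.symm (x.1 (g v))) = _
    rw [LinearEquiv.apply_symm_apply]
  have hDe : ∀ i, D (ve i) = (t i : k) • ve i := fun i => by
    apply g.injective
    rw [hgD, map_smul, hgv, fLin_e]
    exact h.xe i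
  have hDf : ∀ i, D (vf i) = (((t i)⁻¹ : kˣ) : k) • vf i := fun i => by
    apply g.injective
    rw [hgD, map_smul, hgv, fLin_f]
    exact h.xf i
  have hDO : D ∈ O (quadOdd m k) := (O _).mul_mem ((O _).mul_mem ((O _).inv_mem hgO) hxO) hgO
  have hDE : D ∈ E (quadOdd m k) := by
    have := conj_mem_E ((O _).inv_mem hgO) x.2
    rwa [inv_inv] at this
  obtain ⟨c, hc⟩ : ∃ c : k, D vz = c • vz := by
    refine ⟨D vz (.inl ()), ?_⟩
    have h3 : ∀ i, polar (quadOdd m k) (ve i) (D vz) = 0 := fun i => by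
      have h4 := polar_map hDO (ve i) vz
      rw [hDe, polar_smul_left, polar_ve i vz, smul_eq_mul] at h4
      have h5 : (vz : Ix m → k) (.inr (.inr i)) = 0 := by simp [vz]
      rw [h5] at h4
      exact (mul_eq_zero.1 h4).resolve_left (t i).ne_zero
    have h3' : ∀ i, polar (quadOdd m k) (vf i) (D vz) = 0 := fun i => by
      have h4 := polar_map hDO (vf i) vz
      rw [hDf, polar_smul_left, polar_vf i vz, smul_eq_mul] at h4
      have h5 : (vz : Ix m → k) (.inr (.inl i)) = 0 := by simp [vz]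
      rw [h5] at h4
      exact (mul_eq_zero.1 h4).resolve_left ((t i)⁻¹).ne_zero
    funext j
    rcases j with j | j | j
    · simp [vz]
    · have := h3' j
      rw [polar_vf] at this
      rw [this]
      simp [vz]
    · have := h3 j
      rw [polar_ve] at this
      rw [this]
      simp [vz]
  have hc0 : c ≠ 0 := by
    rintro rfl
    rw [zero_smul, LinearEquiv.map_eq_zero_iff] at hc
    have := congrFun hc (.inl ())
    simp [vz] at this
  have hDz : D = tor t * zLin (Units.mk0 c hc0) := by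
    apply LinearEquiv.toLinearMap_injective
    have hz1 : zLin (Units.mk0 c hc0) (vz : Ix m → k) = c • vz := by
      funext j
      rw [zLin_apply]
      rcases j with j | j <;> simp [vz]
    have hz2 : ∀ i, zLin (Units.mk0 c hc0) (ve i : Ix m → k) = ve i := fun i => by
      funext j
      rw [zLin_apply]
      rcases j with j | j <;> simp [ve]
    have hz3 : ∀ i, zLin (Units.mk0 c hc0) (vf i : Ix m → k) = vf i := fun i => by
      funext j
      rw [zLin_apply]
      rcases j with j | j <;> simp [vf]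
    apply lin_ext
    · change D vz = tor t (zLin (Units.mk0 c hc0) vz)
      rw [hc, hz1, map_smul, tor_vz]
    · intro i
      change D (ve i) = tor t (zLin (Units.mk0 c hc0) (ve i))
      rw [hDe, hz2, tor_ve]
    · intro i
      change D (vf i) = tor t (zLin (Units.mk0 c hc0) (vf i))
      rw [hDf, hz3, tor_vf]
  have htor : LinearEquiv.det (tor t : (Ix m → k) ≃ₗ[k] (Ix m → k)) = 1 := by
    apply Units.ext
    rw [LinearEquiv.coe_det]
    have h3 : ((tor t : (Ix m → k) ≃ₗ[k] (Ix m → k)) : (Ix m → k) →ₗ[k] (Ix m → k)) =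
        Matrix.toLin' (Matrix.diagonal fun j : Ix m => ((torVec t j : kˣ) : k)) := by
      apply LinearMap.ext
      intro v
      funext j
      rw [Matrix.toLin'_apply, Matrix.mulVec_diagonal]
      rfl
    rw [h3, LinearMap.det_toLin', Matrix.det_diagonal, Fintype.prod_sum_type, Fintype.prod_sum_type]
    simp only [torVec]
    rw [← Finset.prod_mul_distrib]
    simp
  have hc1 : c = 1 := by
    have h3 := det_of_mem_E hG hDE
    rw [hDz, map_mul, htor, one_mul] at h3
    have h4 := det_zLin (m := m) (Units.mk0 c hc0)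
    rw [h3] at h4
    simpa using h4.symm
  have hDt : D = tor t := by
    rw [hDz]
    have : zLin (Units.mk0 c hc0) = (1 : (Ix m → k) ≃ₗ[k] (Ix m → k)) := by
      apply LinearEquiv.ext
      intro v
      funext j
      rw [zLin_apply]
      rcases j with j | j <;> simp [hc1]
    rw [this, mul_one]
  have hxg : (x : (Ix m → k) ≃ₗ[k] (Ix m → k)) = g * tor t * g⁻¹ := by
    rw [← hDt, hD]
    group
  have hz0 : (quadOdd m k) vz ≠ 0 := by rw [Q_vz]; exact one_ne_zero
  rcases mem_E_or hG Q_vz hz0 hgO with h3 | h3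
  · exact ⟨⟨g, h3⟩, t, hxg⟩
  · refine ⟨⟨g * refl (quadOdd m k) vz hz0, h3⟩, t, ?_⟩
    have hcomm : refl (quadOdd m k) vz hz0 * tor t * (refl (quadOdd m k) vz hz0)⁻¹ = tor t := by
      rw [mul_inv_eq_iff_eq_mul]
      apply LinearEquiv.toLinearMap_injective
      have r1 : refl (quadOdd m k) vz hz0 (vz : Ix m → k) = -vz := by
        rw [refl_apply, polar_self', Q_vz]
        module
      have r2 : ∀ i, refl (quadOdd m k) vz hz0 (ve i : Ix m → k) = ve i := fun i => by
        rw [refl_apply, polar_vz]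
        simp [ve]
      have r3 : ∀ i, refl (quadOdd m k) vz hz0 (vf i : Ix m → k) = vf i := fun i => by
        rw [refl_apply, polar_vz]
        simp [vf]
      apply lin_ext
      · change refl (quadOdd m k) vz hz0 (tor t vz) = tor t (refl (quadOdd m k) vz hz0 vz)
        rw [tor_vz, r1, map_neg, tor_vz]
      · intro i
        change refl (quadOdd m k) vz hz0 (tor t (ve i)) = tor t (refl (quadOdd m k) vz hz0 (ve i))
        rw [tor_ve, map_smul, r2, tor_ve]
      · intro i
        change refl (quadOdd m k) vz hz0 (tor t (vf i)) = tor t (refl (quadOdd m k) vz hz0 (vf i))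
        rw [tor_vf, map_smul, r3, tor_vf]
    change (x : (Ix m → k) ≃ₗ[k] (Ix m → k)) = (g * refl (quadOdd m k) vz hz0) * tor t *
      (g * refl (quadOdd m k) vz hz0)⁻¹
    rw [hxg]
    conv_lhs => rw [← hcomm]
    group

end coord

end Cfsg.Agent.H41.StDiag
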