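import Cfsg.Agent.H45.UniS.Def
import Cfsg.Agent.H41.StDiag

/-!
# Elements of order prime to the characteristic are diagonalizable in the symplectic groups (helper41)

`sDiag` : over an algebraically closed field of characteristic `p` an element of `Sp_{2m}` of finite order prime to `p`
is conjugate in `Sp_{2m}` to a diagonal element.
-/

set_option autoImplicit false
set_option linter.unusedSectionVars false

namespace Cfsg.Agent.H41.SDiag

open Cfsg.Agent.H41.StDiag Cfsg.Agent.H45.UniS Matrix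

section gen

variable {k : Type*} {V : Type*} [Field k] [AddCommGroup V] [Module k V] [FiniteDimensional k V]
  {B : V →ₗ[k] V →ₗ[k] k}

/-- `x` preserves `B` -/
def Pres (B : V →ₗ[k] V →ₗ[k] k) (x : V ≃ₗ[k] V) : Prop := ∀ v w, B (x v) (x w) = B v w

theorem Pres.pow {x : V ≃ₗ[k] V} (h : Pres B x) (i : ℕ) : Pres B (x ^ i) := by
  induction i with
  | zero => intro v w; rfl
  | succ i ih =>
    intro v w
    rw [pow_succ']
    exact (h _ _).trans (ih v w)

/-- **A hyperbolic pair of eigenvectors.** -/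
theorem exists_pair [IsAlgClosed k] {x : V ≃ₗ[k] V} (hx : Pres B x) {n : ℕ} (hn : (n : k) ≠ 0) (hxn : x ^ n = 1)
    (W : Submodule k V) (hW : ∀ w ∈ W, x w ∈ W) (hnd : ∀ w ∈ W, (∀ w' ∈ W, B w w' = 0) → w = 0) (h0 : W ≠ ⊥) :
    ∃ (e f : V) (μ : kˣ), e ∈ W ∧ f ∈ W ∧ B e f = 1 ∧ x e = (μ : k) • e ∧ x f = ((μ⁻¹ : kˣ) : k) • f := by
  obtain ⟨v, μ, hv, hv0, hxv⟩ := exists_eigen x W hW h0
  obtain ⟨w, hw, hvw⟩ : ∃ w ∈ W, B v w ≠ 0 := by
    by_contra hcon
    push Not at hcon
    exact hv0 (hnd v hv hcon)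
  have hμn : (μ : k) ^ n = 1 := by
    have h4 := pow_eigen hxv n
    rw [hxn] at h4
    have h5 : ((μ : k) ^ n - 1) • v = 0 := by
      rw [sub_smul, ← h4, one_smul]
      exact sub_self _
    have h6 := (smul_eq_zero.1 h5).resolve_right hv0
    linear_combination h6
  set f₁ := ∑ i ∈ Finset.range n, (μ : k) ^ i • (x ^ i) w with hf₁
  have hf₁W : f₁ ∈ W := W.sum_mem fun i _ => W.smul_mem _ (pow_stable hW i w hw)
  have hxf₁ : x f₁ = ((μ⁻¹ : kˣ) : k) • f₁ := by
    have h4 : (μ : k) • x f₁ = f₁ := by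
      have h5 : (μ : k) • x f₁ = ∑ i ∈ Finset.range n, (μ : k) ^ (i + 1) • (x ^ (i + 1)) w := by
        rw [hf₁, map_sum, Finset.smul_sum]
        refine Finset.sum_congr rfl fun i _ => ?_
        rw [map_smul, smul_smul, pow_succ' (μ : k), pow_succ' x]
        rfl
      rw [h5]
      have h6 := Finset.sum_range_succ (fun i => (μ : k) ^ i • (x ^ i) w) n
      have h7 := Finset.sum_range_succ' (fun i => (μ : k) ^ i • (x ^ i) w) n
      rw [h6] at h7
      simp only [hμn, hxn, pow_zero] at h7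
      exact (add_right_cancel h7).symm
    calc x f₁ = ((μ⁻¹ : kˣ) : k) • ((μ : k) • x f₁) := by rw [smul_smul, Units.inv_mul, one_smul]
      _ = _ := by rw [h4]
  have hvf₁ : B v f₁ = n * B v w := by
    rw [hf₁, map_sum]
    have h4 : ∀ i ∈ Finset.range n, B v ((μ : k) ^ i • (x ^ i) w) = B v w := by
      intro i _
      have h5 := hx.pow i v w
      rw [pow_eigen hxv, map_smul, LinearMap.smul_apply] at h5
      rw [map_smul]
      exact h5
    rw [Finset.sum_congr rfl h4, Finset.sum_const, Finset.card_range, nsmul_eq_mul]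
  have hc : B v f₁ ≠ 0 := by
    rw [hvf₁]
    exact mul_ne_zero hn hvw
  refine ⟨v, (B v f₁)⁻¹ • f₁, μ, hv, W.smul_mem _ hf₁W, ?_, hxv, ?_⟩
  · rw [map_smul, smul_eq_mul, inv_mul_cancel₀ hc]
  · rw [map_smul, hxf₁, smul_comm]

/-- pairwise orthogonal hyperbolic pairs of eigenvectors -/
structure Fam (B : V →ₗ[k] V →ₗ[k] k) (x : V ≃ₗ[k] V) {r : ℕ} (e f : Fin r → V) (t : Fin r → kˣ) : Prop where
  ee : ∀ i j, B (e i) (e j) = 0
  ff : ∀ i j, B (f i) (f j) = 0
  ef : ∀ i j, B (e i) (f j) = if i = j then 1 else 0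
  xe : ∀ i, x (e i) = (t i : k) • e i
  xf : ∀ i, x (f i) = (((t i)⁻¹ : kˣ) : k) • f i

theorem swap (hB : B.IsAlt) (v w : V) : B v w = - B w v := by
  rw [hB.neg]

theorem Fam.fe (hB : B.IsAlt) {x : V ≃ₗ[k] V} {r : ℕ} {e f : Fin r → V} {t : Fin r → kˣ} (h : Fam B x e f t)
    (i j : Fin r) : B (f i) (e j) = if i = j then -1 else 0 := by
  rw [swap hB, h.ef]
  by_cases hij : i = j
  · rw [if_pos hij, if_pos hij.symm]
  · rw [if_neg hij, if_neg (fun h => hij h.symm), neg_zero]

/-- the orthogonal of a family -/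
def orth (B : V →ₗ[k] V →ₗ[k] k) {r : ℕ} (e f : Fin r → V) : Submodule k V :=
  LinearMap.ker (LinearMap.pi fun j : Fin r ⊕ Fin r => B (Sum.elim e f j))

theorem mem_orth {r : ℕ} {e f : Fin r → V} {w : V} :
    w ∈ orth B e f ↔ (∀ i, B (e i) w = 0) ∧ ∀ i, B (f i) w = 0 := by
  rw [orth, LinearMap.mem_ker]
  constructor
  · intro h
    exact ⟨fun i => congrFun h (.inl i), fun i => congrFun h (.inr i)⟩
  · rintro ⟨h1, h2⟩
    funext j
    rcases j with j | j
    · exact h1 j
    · exact h2 j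

theorem finrank_orth {r : ℕ} (e f : Fin r → V) : Module.finrank k V ≤ Module.finrank k (orth B e f) + 2 * r := by
  have h1 := LinearMap.finrank_range_add_finrank_ker
    (LinearMap.pi fun j : Fin r ⊕ Fin r => B (Sum.elim e f j))
  have h2 := Submodule.finrank_le (LinearMap.range
    (LinearMap.pi fun j : Fin r ⊕ Fin r => B (Sum.elim e f j)))
  rw [Module.finrank_fintype_fun_eq_card, Fintype.card_sum, Fintype.card_fin] at h2
  unfold orth
  omega

theorem orth_stable {x : V ≃ₗ[k] V} (hx : Pres B x) {r : ℕ} {e f : Fin r → V} {t : Fin r → kˣ} (h : Fam B x e f t) :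
    ∀ w ∈ orth B e f, x w ∈ orth B e f := by
  intro w hw
  rw [mem_orth] at hw ⊢
  refine ⟨fun i => ?_, fun i => ?_⟩
  · have h1 := hx (e i) w
    rw [h.xe, map_smul, LinearMap.smul_apply, hw.1, smul_eq_mul] at h1
    exact (mul_eq_zero.1 h1).resolve_left (t i).ne_zero
  · have h1 := hx (f i) w
    rw [h.xf, map_smul, LinearMap.smul_apply, hw.2, smul_eq_mul] at h1
    exact (mul_eq_zero.1 h1).resolve_left ((t i)⁻¹).ne_zero

theorem orth_nondeg (hB : B.IsAlt) (hQ : ∀ v, (∀ w, B v w = 0) → v = 0) {x : V ≃ₗ[k] V} {r : ℕ} {e f : Fin r → V}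
    {t : Fin r → kˣ} (h : Fam B x e f t) : ∀ w ∈ orth B e f, (∀ w' ∈ orth B e f, B w w' = 0) → w = 0 := by
  intro w hw hall
  rw [mem_orth] at hw
  refine hQ w fun v => ?_
  set v' := v + (∑ i, B (f i) v • e i) - ∑ i, B (e i) v • f i with hv'
  have h1 : v' ∈ orth B e f := by
    rw [mem_orth]
    refine ⟨fun j => ?_, fun j => ?_⟩
    · rw [hv', map_sub, map_add, map_sum, map_sum]
      simp only [map_smul, h.ee, h.ef, smul_eq_mul, mul_zero, Finset.sum_const_zero, mul_ite, mul_one,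
        Finset.sum_ite_eq, Finset.mem_univ, if_true]
      ring
    · rw [hv', map_sub, map_add, map_sum, map_sum]
      simp only [map_smul, h.ff, h.fe hB, smul_eq_mul, mul_zero, Finset.sum_const_zero, mul_ite, mul_one,
        Finset.sum_ite_eq, Finset.mem_univ, if_true]
      ring
  have h2 := hall v' h1
  have he : ∀ i, B w (e i) = 0 := fun i => by rw [swap hB, hw.1, neg_zero]
  have hf : ∀ i, B w (f i) = 0 := fun i => by rw [swap hB, hw.2, neg_zero]
  rw [hv', map_sub, map_add, map_sum, map_sum] at h2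
  simp only [map_smul, he, hf, smul_zero, Finset.sum_const_zero, sub_zero, add_zero] at h2
  exact h2

theorem Fam.cons (hB : B.IsAlt) {x : V ≃ₗ[k] V} {r : ℕ} {e f : Fin r → V} {t : Fin r → kˣ} (h : Fam B x e f t) {a b : V}
    {μ : kˣ} (ha : a ∈ orth B e f) (hb : b ∈ orth B e f) (hab : B a b = 1) (hxa : x a = (μ : k) • a)
    (hxb : x b = ((μ⁻¹ : kˣ) : k) • b) :
    Fam B x (Fin.cons a e : Fin (r + 1) → V) (Fin.cons b f : Fin (r + 1) → V) (Fin.cons μ t : Fin (r + 1) → kˣ) := by
  rw [mem_orth] at ha hb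
  have h0 : ∀ i : Fin r, (0 : Fin (r + 1)) ≠ i.succ := fun i => (Fin.succ_ne_zero i).symm
  refine ⟨?_, ?_, ?_, ?_, ?_⟩
  · refine Fin.cases ?_ fun i => ?_ <;> refine Fin.cases ?_ fun j => ?_
    · exact hB a
    · change B a (e j) = 0
      rw [swap hB, ha.1, neg_zero]
    · exact ha.1 i
    · exact h.ee i j
  · refine Fin.cases ?_ fun i => ?_ <;> refine Fin.cases ?_ fun j => ?_
    · exact hB b
    · change B b (f j) = 0
      rw [swap hB, hb.2, neg_zero]
    · exact hb.2 i
    · exact h.ff i j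
  · refine Fin.cases ?_ fun i => ?_ <;> refine Fin.cases ?_ fun j => ?_
    · rw [if_pos rfl]; exact hab
    · rw [if_neg (h0 j)]
      change B a (f j) = 0
      rw [swap hB, ha.2, neg_zero]
    · rw [if_neg (h0 i).symm]; exact hb.1 i
    · rw [Fin.cons_succ, Fin.cons_succ, h.ef]
      simp only [Fin.succ_inj]
  · refine Fin.cases ?_ fun i => ?_
    · exact hxa
    · exact h.xe i
  · refine Fin.cases ?_ fun i => ?_
    · exact hxb
    · exact h.xf i

theorem exists_fam [IsAlgClosed k] (hB : B.IsAlt) (hQ : ∀ v, (∀ w, B v w = 0) → v = 0) {x : V ≃ₗ[k] V}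
    (hx : Pres B x) {n : ℕ} (hn : (n : k) ≠ 0) (hxn : x ^ n = 1) {m : ℕ} (hm : Module.finrank k V = 2 * m) :
    ∀ r ≤ m, ∃ (e f : Fin r → V) (t : Fin r → kˣ), Fam B x e f t := by
  intro r
  induction r with
  | zero =>
    intro _
    exact ⟨Fin.elim0, Fin.elim0, Fin.elim0, ⟨fun i => i.elim0, fun i => i.elim0, fun i => i.elim0, fun i => i.elim0,
      fun i => i.elim0⟩⟩
  | succ r ih =>
    intro hr
    obtain ⟨e, f, t, h⟩ := ih (by omega)
    have h3 := finrank_orth (B := B) e f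
    obtain ⟨a, b, μ, ha, hb, hab, hxa, hxb⟩ := exists_pair hx hn hxn (orth B e f) (orth_stable hx h)
      (orth_nondeg hB hQ h) (by
        intro h0
        rw [h0, finrank_bot] at h3
        omega)
    exact ⟨_, _, _, h.cons hB ha hb hab hxa hxb⟩

end gen

/-! ### coordinates -/

section coord

variable {m : ℕ} {k : Type*} [Field k]

/-- the symplectic form -/
def bf (m : ℕ) (k : Type*) [Field k] : (Fin m ⊕ Fin m → k) →ₗ[k] (Fin m ⊕ Fin m → k) →ₗ[k] k :=
  LinearMap.mk₂ k (fun v w => (J (Fin m) k *ᵥ v) ⬝ᵥ w)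
    (fun a b c => by rw [Matrix.mulVec_add, add_dotProduct])
    (fun s a b => by rw [Matrix.mulVec_smul, smul_dotProduct])
    (fun a b c => by rw [dotProduct_add])
    (fun s a b => by rw [dotProduct_smul])

theorem bf_apply (v w : Fin m ⊕ Fin m → k) : bf m k v w = (J (Fin m) k *ᵥ v) ⬝ᵥ w := rfl

theorem bf_eq (v w : Fin m ⊕ Fin m → k) :
    bf m k v w = ∑ i, (v (.inl i) * w (.inr i) - v (.inr i) * w (.inl i)) := by
  rw [bf_apply, dotProduct, Fintype.sum_sum_type, ← Finset.sum_add_distrib]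
  refine Finset.sum_congr rfl fun i _ => ?_
  have h1 : (J (Fin m) k *ᵥ v) (.inl i) = - v (.inr i) := by
    rw [J, mulVec, dotProduct, Fintype.sum_sum_type]
    simp [Matrix.fromBlocks_apply₁₁, Matrix.fromBlocks_apply₁₂, Matrix.one_apply]
  have h2 : (J (Fin m) k *ᵥ v) (.inr i) = v (.inl i) := by
    rw [J, mulVec, dotProduct, Fintype.sum_sum_type]
    simp [Matrix.fromBlocks_apply₂₁, Matrix.fromBlocks_apply₂₂, Matrix.one_apply]
  rw [h1, h2]
  ring

theorem bf_alt : (bf m k).IsAlt := by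
  intro v
  rw [bf_eq]
  refine Finset.sum_eq_zero fun i _ => ?_
  ring

theorem bf_nondeg (v : Fin m ⊕ Fin m → k) (h : ∀ w, bf m k v w = 0) : v = 0 := by
  funext j
  rcases j with j | j
  · have := h (Pi.single (.inr j) 1)
    rw [bf_eq] at this
    simpa [Pi.single_apply] using this
  · have := h (Pi.single (.inl j) 1)
    rw [bf_eq] at this
    simpa [Pi.single_apply] using this

theorem bf_pres (x : SG m k) (v w : Fin m ⊕ Fin m → k) : bf m k (x.1 *ᵥ v) (x.1 *ᵥ w) = bf m k v w := by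
  have h1 : x.1ᵀ * J (Fin m) k * x.1 = J (Fin m) k := SymplecticGroup.mem_iff'.1 x.2
  rw [bf_apply, bf_apply, Matrix.dotProduct_mulVec, ← Matrix.mulVec_transpose, Matrix.mulVec_mulVec,
    Matrix.mulVec_mulVec, h1]

/-- the linear equivalence of a symplectic matrix -/
noncomputable def lin (m : ℕ) (k : Type*) [Field k] : SG m k →* ((Fin m ⊕ Fin m → k) ≃ₗ[k] (Fin m ⊕ Fin m → k)) where
  toFun x := LinearEquiv.ofLinearMap (Matrix.mulVecLin x.1) (Matrix.mulVecLin (x⁻¹ : SG m k).1)
    (by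
      rw [← Matrix.mulVecLin_mul]
      have : (x.1 * (x⁻¹ : SG m k).1) = 1 := congrArg Subtype.val (mul_inv_cancel x)
      rw [this, Matrix.mulVecLin_one])
    (by
      rw [← Matrix.mulVecLin_mul]
      have : ((x⁻¹ : SG m k).1 * x.1) = 1 := congrArg Subtype.val (inv_mul_cancel x)
      rw [this, Matrix.mulVecLin_one])
  map_one' := by
    apply LinearEquiv.ext
    intro v
    exact Matrix.one_mulVec v
  map_mul' x y := by
    apply LinearEquiv.ext
    intro v
    exact (Matrix.mulVec_mulVec v x.1 y.1).symm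

theorem lin_apply (x : SG m k) (v : Fin m ⊕ Fin m → k) : lin m k x v = x.1 *ᵥ v := rfl

/-- the images of the basis vectors -/
def famV {V : Type*} (e f : Fin m → V) : Fin m ⊕ Fin m → V := Sum.elim e f

theorem bf_single (b c : Fin m ⊕ Fin m) : bf m k (Pi.single b 1) (Pi.single c 1) = - J (Fin m) k b c := by
  rw [bf_apply, dotProduct_single, mul_one, Matrix.mulVec_single_one, Matrix.col_apply]
  have h : J (Fin m) k c b = (J (Fin m) k)ᵀ b c := rfl
  rw [h, Matrix.J_transpose]
  rfl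

theorem bf_fam {x : (Fin m ⊕ Fin m → k) ≃ₗ[k] (Fin m ⊕ Fin m → k)} {e f : Fin m → (Fin m ⊕ Fin m → k)}
    {t : Fin m → kˣ} (h : Fam (bf m k) x e f t) (b c : Fin m ⊕ Fin m) :
    bf m k (famV e f b) (famV e f c) = - J (Fin m) k b c := by
  rw [← bf_single]
  rcases b with b | b <;> rcases c with c | c
  · change bf m k (e b) (e c) = _
    rw [h.ee, bf_eq]
    simp [Pi.single_apply]
  · change bf m k (e b) (f c) = _
    rw [h.ef, bf_eq]
    by_cases hbc : b = c
    · subst hbc
      simp [Pi.single_apply]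
    · rw [if_neg hbc]
      simp [Pi.single_apply, Ne.symm hbc]
  · change bf m k (f b) (e c) = _
    rw [h.fe bf_alt, bf_eq]
    by_cases hbc : b = c
    · subst hbc
      simp [Pi.single_apply]
    · rw [if_neg hbc]
      simp [Pi.single_apply, Ne.symm hbc]
  · change bf m k (f b) (f c) = _
    rw [h.ff, bf_eq]
    simp [Pi.single_apply]

/-- **Elements of finite order prime to the characteristic are diagonalizable in `Sp_{2m}`.** -/
theorem sDiag [IsAlgClosed k] (p : ℕ) [CharP k p] (hp : p.Prime) : SDiag p m k := by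
  intro x hx0 hxp
  have hn : ((orderOf x : ℕ) : k) ≠ 0 := by
    intro h
    rw [CharP.cast_eq_zero_iff k p] at h
    have := Nat.Coprime.eq_one_of_dvd hxp.symm h
    exact hp.one_lt.ne' this
  have hxn : (lin m k x) ^ orderOf x = 1 := by
    rw [← map_pow, pow_orderOf_eq_one, map_one]
  have hdim : Module.finrank k (Fin m ⊕ Fin m → k) = 2 * m := by
    rw [Module.finrank_fintype_fun_eq_card, Fintype.card_sum, Fintype.card_fin]
    ring
  obtain ⟨e, f, t, h⟩ := exists_fam (B := bf m k) bf_alt bf_nondeg (x := lin m k x) (fun v w => bf_pres x v w) hn hxn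
    hdim m le_rfl
  -- the matrix with the columns `e`, `f`
  let g : Matrix (Fin m ⊕ Fin m) (Fin m ⊕ Fin m) k := Matrix.of fun a b => famV e f b a
  have hcol : ∀ b, g *ᵥ Pi.single b 1 = famV e f b := fun b => by
    rw [Matrix.mulVec_single_one]
    rfl
  have hg : g ∈ symplecticGroup (Fin m) k := by
    rw [SymplecticGroup.mem_iff']
    ext b c
    have h1 : (gᵀ * J (Fin m) k * g) b c = - bf m k (famV e f b) (famV e f c) := by
      have h2 : bf m k (famV e f b) (famV e f c) = - bf m k (famV e f c) (famV e f b) := swap bf_alt _ _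
      rw [h2, neg_neg, bf_apply, ← hcol c, Matrix.mulVec_mulVec, dotProduct_comm]
      rw [Matrix.mul_assoc, Matrix.mul_apply', Matrix.mulVec_single_one]
      rfl
    rw [h1, bf_fam h, neg_neg]
  refine ⟨⟨g, hg⟩, t, ?_⟩
  rw [eq_mul_inv_iff_mul_eq]
  apply Subtype.ext
  change x.1 * g = g * Matrix.diagonal (tsVec t)
  ext a b
  have h1 : (x.1 * g) a b = (x.1 *ᵥ famV e f b) a := rfl
  have h2 : (g * Matrix.diagonal (tsVec t)) a b = tsVec t b * famV e f b a := by
    rw [Matrix.mul_diagonal, mul_comm]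
    rfl
  rw [h1, h2]
  rcases b with b | b
  · have h3 := congrFun (h.xe b) a
    exact h3
  · have h3 := congrFun (h.xf b) a
    exact h3

end coord

end Cfsg.Agent.H41.SDiag
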